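import Cfsg.Agent.J4Type.Order.ZClasses

/-!
# Elements moving an element of the centraliser of `z` by at most `z`

The classes of an element over the linear map `X` and the translation `a` are controlled by the linear maps
commuting with `X`; these are listed from the stabiliser of a point of the short orbit.
-/

set_option autoImplicit false
set_option maxRecDepth 100000

open Cfsg Subgroup

namespace Cfsg.Agent.J4Classes.CentZ

open LargeExtra (oc oc_le)
open J4Type J4Type.V11 J4Type.V11.AZ J4Type.Rep J4Type.Orbits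

/-- The codes of the stabiliser of the base point of the short orbit, by products of packed maps. -/
noncomputable def stabIP : List ℕ :=
  (Short.codesA.map enc).flatMap fun a => (Short.codesB.map enc).map (mulP a)

/-- The same with the outer part. -/
noncomputable def stabP : List ℕ := stabIP ++ stabIP.map (mulP (enc Short.S0c))

/-- A word of a point, and the map. -/
abbrev Pt := ℕ × List ℕ × ℕ

/-- The candidates for the linear maps commuting with a map whose power fixes the listed points. -/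
noncomputable def centL (fx : List Pt) (Di : ℕ) : List ℕ :=
  stabP.flatMap fun s => fx.map fun e => mulP e.2.2 (mulP s Di)

/-- The linear part commutes and the translations agree modulo the image of `1 + X`. -/
noncomputable def cok (X I a a' Y : ℕ) : Bool :=
  Nat.beq (mulP Y X) (mulP X Y) && bit I (Nat.xor a' (mulP Y a))

/-- The image of `1 + X` lies in a set. -/
noncomputable def imOK (X I : ℕ) : Bool :=
  (List.range 4096).all fun b => bit I (Nat.xor b (mulP X b))

/-- The kernel of `1 + X` has at most the given size. -/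
noncomputable def kerOK (X K : ℕ) : Bool :=
  Nat.ble ((List.range 4096).filter fun b => Nat.beq (mulP X b) b).length K

/-- The points: a power of `X` fixes the first one and only the listed points of the short orbit. -/
noncomputable def fixOK (X k r0 : ℕ) (wi : List ℕ) (Di : ℕ) (fx : List Pt) : Bool :=
  bit Short.orbBits r0 && Nat.blt r0 4096 && Nat.beq (mulP (powP X k) r0) r0 &&
    wi.all (fun i => Nat.blt i 4) && Nat.beq (wordP gensP wi) Di && Nat.beq (mulP Di r0) Short.v0 &&
    fx.all (fun e => e.2.1.all (fun i => Nat.blt i 4) && Nat.beq (wordP gensP e.2.1) e.2.2 &&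
      Nat.beq (mulP e.2.2 Short.v0) e.1) &&
    (List.range 4096).all fun r =>
      !(bit Short.orbBits r && Nat.beq (mulP (powP X k) r) r) || fx.any fun e => Nat.beq e.1 r

/-- The word gives the map. -/
noncomputable def wordOK (X : ℕ) (w : List ℕ) : Bool :=
  w.all (fun i => Nat.blt i 4) && Nat.beq (wordP gensP w) X

theorem good_S0c : goodM Short.S0c = true := by decide +kernel

theorem good_codes : (Short.codesA.all goodM && Short.codesB.all goodM) = true := by decide +kernel

theorem mem_stabIP {M : List ℕ} (h : M ∈ stabIn) : enc M ∈ stabIP := by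
  obtain ⟨a, ha, b, hb, rfl⟩ := mem_prodList.1 h
  have hg := good_codes
  simp only [Bool.and_eq_true, List.all_eq_true] at hg
  rw [← mulP_comp (hg.1 a ha) (hg.2 b hb)]
  exact List.mem_flatMap.2 ⟨_, List.mem_map_of_mem ha, List.mem_map.2 ⟨_, List.mem_map_of_mem hb, rfl⟩⟩

theorem mem_stabP {M : List ℕ} (h : M ∈ stabIn ++ stabOut) : enc M ∈ stabP := by
  rcases List.mem_append.1 h with h | h
  · exact List.mem_append_left _ (mem_stabIP h)
  · obtain ⟨N, hN, rfl⟩ := List.mem_map.1 h
    rw [← mulP_comp good_S0c (good_stabIn hN)]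
    exact List.mem_append_right _ (List.mem_map_of_mem (mem_stabIP hN))

variable {G : Type*} [Group G] [Finite G] {z : G} {P : Subgroup G} {V : Type*} [AddCommGroup V]
  {π : ↥(oc z) →* Multiplicative V} {ρ : ↥(mSub z P) →* Equiv.Perm V} {q : V → ZMod 2} {B : List V}

/-- `y` fixes `z` and moves `x` by at most `z`. -/
def CZ (z x y : G) : Prop := y ∈ centralizer ({z} : Set G) ∧ (y * x = x * y ∨ y * x = x * y * z)

section Sys

variable (S : Sys z P π ρ q B)
include S

theorem word_code {X : ℕ} {w : List ℕ} (h : wordOK X w = true) : ∃ δ ∈ ρ.range, Pk B δ X := by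
  simp only [wordOK, Bool.and_eq_true, List.all_eq_true, Nat.blt_eq] at h
  rw [← Nat.eq_of_beq_eq_true h.2]
  exact word_pk S (fun k hk => gen_pk S hk) fun k hk => by rw [gens_len]; exact h.1 k hk

theorem pk_pow {δ : Equiv.Perm V} {X : ℕ} (hX : Pk B δ X) : ∀ k, Pk B (δ ^ k) (powP X k)
  | 0 => by rw [pow_zero, powP_zero]; exact pk_one S
  | k + 1 => by rw [pow_succ', powP_succ]; exact hX.mul (pk_pow hX k)

/-- The candidates hold every linear map commuting with `X`. -/
theorem mem_centL {X k r0 Di Y : ℕ} {w wi : List ℕ} {fx : List Pt} (hw : wordOK X w = true)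
    (hfx : fixOK X k r0 wi Di fx = true) {γ : Equiv.Perm V} (hγ : γ ∈ ρ.range) (hY : Pk B γ Y)
    (hc : mulP Y X = mulP X Y) : Y ∈ centL fx Di := by
  obtain ⟨δ, -, hX⟩ := word_code S hw
  simp only [fixOK, Bool.and_eq_true, List.all_eq_true, Bool.or_eq_true, Bool.not_eq_true',
    Nat.blt_eq] at hfx
  obtain ⟨⟨⟨⟨⟨⟨⟨hb, hr0⟩, hf0⟩, hwi⟩, hDi⟩, h0⟩, hlist⟩, hall⟩ := hfx
  have hf0 := Nat.eq_of_beq_eq_true hf0
  have hcomm : Commute γ (δ ^ k) := by
    refine Commute.pow_right ?_ k
    exact Pk.inj S (hY.mul hX) (hc ▸ hX.mul hY)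
  obtain ⟨r, hr, hrb, hre⟩ := short.invariant S.M hγ hr0 hb
  have hτ : Pk B (δ ^ k) (powP X k) := pk_pow S hX k
  have hfix : mulP (powP X k) r = r := by
    refine S.lin_lt_inj (hτ.lt hr) hr ?_
    rw [← hτ.apply hr, ← hre, ← Equiv.Perm.mul_apply, ← hcomm.eq, Equiv.Perm.mul_apply, hτ.apply hr0, hf0]
  obtain ⟨e, he, her⟩ : ∃ e ∈ fx, e.1 = r := by
    rcases hall r (List.mem_range.2 hr) with h | h
    · rw [hrb, hfix, Nat.beq_refl] at h; exact Bool.noConfusion h
    · obtain ⟨e, he, h⟩ := List.any_eq_true.1 h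
      exact ⟨e, he, Nat.eq_of_beq_eq_true h⟩
  obtain ⟨⟨he1, he2⟩, he3⟩ := hlist e he
  obtain ⟨ε, hε, hεD⟩ := word_pk S (fun k hk => gen_pk S hk) (w := e.2.1) fun i hi => by
    rw [gens_len]; exact he1 i hi
  obtain ⟨η, hη, hηD⟩ := word_pk S (fun k hk => gen_pk S hk) (w := wi) fun i hi => by
    rw [gens_len]; exact hwi i hi
  rw [Nat.eq_of_beq_eq_true he2] at hεD
  rw [Nat.eq_of_beq_eq_true hDi] at hηD
  have hη0 : η (Rep.lin B r0) = Rep.lin B Short.v0 := by
    rw [hηD.apply hr0, Nat.eq_of_beq_eq_true h0]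
  have hε0 : ε (Rep.lin B Short.v0) = Rep.lin B r := by
    rw [hεD.apply short.v₀_lt, Nat.eq_of_beq_eq_true he3, her]
  obtain ⟨M, hM, hact⟩ := stab_codes S.M short
    (γ := ε⁻¹ * γ * η⁻¹) (mul_mem (mul_mem (inv_mem hε) hγ) (inv_mem hη)) (by
    rw [Equiv.Perm.mul_apply, Equiv.Perm.mul_apply, ← hη0, Equiv.Perm.inv_def η, Equiv.symm_apply_apply,
      hre, hη0, Equiv.Perm.inv_eq_iff_eq, hε0])
  have hgood : goodM M = true := by
    rcases List.mem_append.1 hM with h | h
    exacts [good_stabIn h, good_stabOut h]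
  have hp : Pk B (ε⁻¹ * γ * η⁻¹) (enc M) := ⟨M, hgood, rfl, hact⟩
  have h2 := hεD.mul (hp.mul hηD)
  rw [show ε * (ε⁻¹ * γ * η⁻¹ * η) = γ by group] at h2
  rw [Pk.unique S hY h2]
  exact List.mem_flatMap.2 ⟨_, mem_stabP hM, List.mem_map.2 ⟨e, he, rfl⟩⟩

/-- The number of the linear maps commuting with `X` with agreeing translations. -/
theorem card_lin {X I a k r0 Di N : ℕ} {w wi : List ℕ} {fx : List Pt} (hw : wordOK X w = true)
    (hfx : fixOK X k r0 wi Di fx = true) (hN : Nat.ble ((centL fx Di).countP (cok X I a a)) N = true) :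
    Nat.card {γ : Equiv.Perm V // γ ∈ ρ.range ∧ ∃ Y, Pk B γ Y ∧ cok X I a a Y = true} ≤ N := by
  classical
  have hV := S.M.fin
  rw [Nat.ble_eq, List.countP_eq_length_filter] at hN
  refine le_trans ?_ hN
  refine le_trans ?_ (List.toFinset_card_le _)
  rw [← Nat.card_eq_finsetCard]
  refine Nat.card_le_card_of_injective (fun γ => ⟨γ.2.2.choose, ?_⟩) fun γ δ e => Subtype.ext ?_
  · obtain ⟨hp, hc⟩ := γ.2.2.choose_spec
    refine List.mem_toFinset.2 (List.mem_filter.2 ⟨mem_centL S hw hfx γ.2.1 hp ?_, hc⟩)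
    exact Nat.eq_of_beq_eq_true (Bool.and_eq_true_iff.1 hc).1
  · have e' : γ.2.2.choose = δ.2.2.choose := congrArg Subtype.val e
    exact Pk.inj S γ.2.2.choose_spec.1 (e' ▸ δ.2.2.choose_spec.1)

/-- The codes of an element moving one element to another one, up to `z`. -/
theorem cok_of_move {x x' y : G} {X a a' Y b I : ℕ} (hI : imOK X I = true)
    (hx : Fib z P π ρ B X a x) (hx' : Fib z P π ρ B X a' x') (hy : Fib z P π ρ B Y b y)
    (ha : a < 4096) (ha' : a' < 4096) (hb : b < 4096) (h : y * x = x' * y ∨ y * x = x' * y * z) :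
    cok X I a a' Y = true ∧ Nat.xor b (mulP X b) = Nat.xor a' (mulP Y a) := by
  have h1 := fib_mul S hy hx ha
  have h2 : Fib z P π ρ B (mulP X Y) (a' ^^^ mulP X b) (y * x) := by
    have h3 := fib_mul S hx' hy hb
    rcases h with e | e <;> rw [e]
    · exact h3
    · exact fib_mul_z S h3
  obtain ⟨e1, e2⟩ := fib_inj_code S h1 h2 (xor_lt hb (hy.2.1.lt ha)) (xor_lt ha' (hx.2.1.lt hb))
  have e3 : b ^^^ mulP X b = a' ^^^ mulP Y a := by
    calc b ^^^ mulP X b = (b ^^^ mulP Y a) ^^^ (mulP Y a ^^^ mulP X b) := by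
          simp [Nat.xor_assoc, Nat.xor_left_comm, Nat.xor_comm]
      _ = (a' ^^^ mulP X b) ^^^ (mulP Y a ^^^ mulP X b) := by rw [e2]
      _ = a' ^^^ mulP Y a := by simp [Nat.xor_assoc, Nat.xor_left_comm, Nat.xor_comm]
  refine ⟨?_, e3⟩
  rw [cok, e1, Nat.beq_refl, Bool.true_and]
  have hb' := List.all_eq_true.1 hI b (List.mem_range.2 hb)
  rw [show Nat.xor b (mulP X b) = b ^^^ mulP X b from rfl, e3] at hb'
  exact hb'

/-- The elements moving `x` by at most `z` are few. -/
theorem card_CZ {x : G} {X a I K N : ℕ} (hI : imOK X I = true) (hK : kerOK X K = true)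
    (hN : Nat.card {γ : Equiv.Perm V // γ ∈ ρ.range ∧ ∃ Y, Pk B γ Y ∧ cok X I a a Y = true} ≤ N)
    (hx : Fib z P π ρ B X a x) (ha : a < 4096) :
    Nat.card {y : G // CZ z x y} ≤ 2 * (N * K) := by
  classical
  have hV := S.M.fin
  have := Fintype.ofFinite G
  have := Fintype.ofFinite V
  rw [kerOK, Nat.ble_eq] at hK
  set T := ((List.range 4096).filter fun b => Nat.beq (mulP X b) b).toFinset with hT
  set Γc := Finset.univ.filter fun γ : Equiv.Perm V => γ ∈ ρ.range ∧ ∃ Y, Pk B γ Y ∧ cok X I a a Y = true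
    with hΓc
  have hΓN : Γc.card ≤ N := by
    refine le_trans (le_of_eq ?_) hN
    rw [Nat.card_eq_fintype_card, Fintype.card_subtype]
  -- one translation for every linear map
  have key : ∀ y : G, CZ z x y → ∃ Y b, b < 4096 ∧ Fib z P π ρ B Y b y ∧ cok X I a a Y = true ∧
      Nat.xor b (mulP X b) = Nat.xor a (mulP Y a) ∧ J4Type.lin ρ y ∈ Γc := by
    intro y hy
    obtain ⟨Y, b, hb, hf, hr⟩ := exists_code_of_mem S hy.1
    obtain ⟨h1, h2⟩ := cok_of_move S hI hx hx hf ha ha hb hy.2
    exact ⟨Y, b, hb, hf, h1, h2, Finset.mem_filter.2 ⟨Finset.mem_univ _, hr, Y, hf.2.1, h1⟩⟩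
  choose Yf bf hbf hff hcok heq hmem using key
  let b0 : Equiv.Perm V → ℕ := fun γ =>
    if h : ∃ y, CZ z x y ∧ J4Type.lin ρ y = γ then bf h.choose h.choose_spec.1 else 0
  let f : {y : G // CZ z x y} → Equiv.Perm V × ℕ := fun y =>
    (J4Type.lin ρ y.1, Nat.xor (bf y.1 y.2) (b0 (J4Type.lin ρ y.1)))
  have hmaps : ∀ y ∈ (Finset.univ : Finset {y : G // CZ z x y}), f y ∈ Γc ×ˢ T := by
    intro y _
    refine Finset.mem_product.2 ⟨hmem _ y.2, ?_⟩
    have h : ∃ w, CZ z x w ∧ J4Type.lin ρ w = J4Type.lin ρ y.1 := ⟨_, y.2, rfl⟩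
    show Nat.xor (bf y.1 y.2) (b0 _) ∈ T
    simp only [b0, dif_pos h]
    set w := h.choose
    have hw := h.choose_spec.1
    have hYY : Yf w hw = Yf y.1 y.2 :=
      Pk.unique S (hff w hw).2.1 (h.choose_spec.2 ▸ (hff y.1 y.2).2.1)
    have e1 := heq y.1 y.2
    have e2 := heq w hw
    rw [hYY] at e2
    have hlin := hx.2.1.linear S (hbf y.1 y.2) (hbf w hw)
    refine List.mem_toFinset.2 (List.mem_filter.2 ⟨List.mem_range.2 (xor_lt (hbf _ _) (hbf _ _)), ?_⟩)
    rw [Nat.beq_eq]
    change bf y.1 y.2 ^^^ mulP X (bf y.1 y.2) = _ at e1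
    change bf w hw ^^^ mulP X (bf w hw) = _ at e2
    show mulP X (bf y.1 y.2 ^^^ bf w hw) = bf y.1 y.2 ^^^ bf w hw
    rw [hlin]
    have e3 := e1.trans e2.symm
    have := congrArg (fun t => bf y.1 y.2 ^^^ t ^^^ mulP X (bf w hw)) e3
    simpa [Nat.xor_assoc, Nat.xor_left_comm, Nat.xor_comm] using this
  have hfib : ∀ p ∈ Γc ×ˢ T, ({y ∈ (Finset.univ : Finset {y : G // CZ z x y}) | f y = p}).card ≤ 2 := by
    intro p _
    by_cases hne : ({y ∈ (Finset.univ : Finset {y : G // CZ z x y}) | f y = p}).Nonempty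
    · obtain ⟨g, hg⟩ := hne
      rw [Finset.mem_filter] at hg
      refine le_trans (Finset.card_le_card_of_injOn (fun y => y.1) (t := {g.1, g.1 * z}) ?_
        fun u _ v _ e => Subtype.ext e) Finset.card_le_two
      intro y hy
      rw [Finset.mem_coe, Finset.mem_filter] at hy
      obtain ⟨e1, e2⟩ := Prod.ext_iff.1 (hy.2.trans hg.2.symm)
      have e1 : J4Type.lin ρ y.1 = J4Type.lin ρ g.1 := e1
      have hY : Yf y.1 y.2 = Yf g.1 g.2 := Pk.unique S (hff y.1 y.2).2.1 (e1 ▸ (hff g.1 g.2).2.1)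
      have hb : bf y.1 y.2 = bf g.1 g.2 := by
        have e2 : bf y.1 y.2 ^^^ b0 (J4Type.lin ρ y.1) = bf g.1 g.2 ^^^ b0 (J4Type.lin ρ g.1) := e2
        rw [e1] at e2
        exact Nat.xor_left_inj.1 e2
      rcases fib_pair S (hff g.1 g.2) (hY ▸ hb ▸ hff y.1 y.2) with e | e
      · simp [e]
      · simp [e]
    · rw [Finset.not_nonempty_iff_eq_empty.1 hne]; simp
  have hle := Finset.card_le_mul_card_image_of_maps_to hmaps 2 hfib
  rw [Finset.card_univ, ← Nat.card_eq_fintype_card, Finset.card_product] at hle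
  refine hle.trans (Nat.mul_le_mul_left 2 (Nat.mul_le_mul hΓN ?_))
  exact (List.toFinset_card_le _).trans hK

end Sys

/-- The centraliser inside `C(z)`. -/
theorem card_cent_le {x : G} (hH : centralizer ({x} : Set G) ≤ centralizer ({z} : Set G)) :
    Nat.card ↥(centralizer ({x} : Set G)) ≤ Nat.card {y : G // CZ z x y} :=
  Nat.card_le_card_of_injective
    (fun y => ⟨y.1, hH y.2, Or.inl (mem_centralizer_singleton_iff.1 y.2)⟩)
    fun _ _ e => Subtype.ext (congrArg (fun w => (w.1 : G)) e)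

section Half

variable (S : Sys z P π ρ q B)
include S

/-- The centraliser inside `C(z)`, halved by an element moving `x` to `x * z`. -/
theorem card_cent_half {x y0 : G} (hH : centralizer ({x} : Set G) ≤ centralizer ({z} : Set G))
    (hy0 : y0 ∈ centralizer ({z} : Set G)) (h0 : y0 * x = x * y0 * z) :
    2 * Nat.card ↥(centralizer ({x} : Set G)) ≤ Nat.card {y : G // CZ z x y} := by
  classical
  have hne : y0 * x ≠ x * y0 := fun e => S.D.z_ne (mul_eq_left.1 (h0.symm.trans e))
  rw [show 2 * Nat.card ↥(centralizer ({x} : Set G)) = Nat.card (Bool × ↥(centralizer ({x} : Set G))) by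
    rw [Nat.card_prod, Nat.card_eq_fintype_card (α := Bool), Fintype.card_bool]]
  have hc : ∀ c : ↥(centralizer ({x} : Set G)), (c : G) * x = x * c :=
    fun c => mem_centralizer_singleton_iff.1 c.2
  refine Nat.card_le_card_of_injective (fun p => ⟨cond p.1 ((p.2 : G) * y0) p.2, ?_⟩) ?_
  · obtain ⟨b, c⟩ := p
    cases b
    · exact ⟨hH c.2, Or.inl (hc c)⟩
    · refine ⟨mul_mem (hH c.2) hy0, Or.inr ?_⟩
      show (c : G) * y0 * x = x * (c * y0) * z
      rw [mul_assoc, h0, ← mul_assoc, ← mul_assoc, hc c, mul_assoc x]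
  · rintro ⟨b, c⟩ ⟨b', c'⟩ e
    have e : cond b ((c : G) * y0) c = cond b' ((c' : G) * y0) c' := congrArg Subtype.val e
    have key : ∀ u v : ↥(centralizer ({x} : Set G)), (u : G) * y0 = v → False := fun u v h => hne (by
      have hy : y0 = (u : G)⁻¹ * v := by rw [← h, inv_mul_cancel_left]
      have hm : y0 ∈ centralizer ({x} : Set G) := hy ▸ mul_mem (inv_mem u.2) v.2
      exact mem_centralizer_singleton_iff.1 hm)
    cases b <;> cases b'
    · exact Prod.ext rfl (Subtype.ext e)
    · exact (key c' c e.symm).elim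
    · exact (key c c' e).elim
    · exact Prod.ext rfl (Subtype.ext (mul_right_cancel e))

end Half

end Cfsg.Agent.J4Classes.CentZ
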