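import Cfsg.Agent.J4Classes.C.Base
import Cfsg.Agent.J4Classes.C.Data

/-!
# What is checked for each class
-/

set_option autoImplicit false

namespace Cfsg.Agent.J4Classes.CentZ

open J4Type.V11.AZ

/-- The data of a linear map. -/
structure Lin where
  /-- the map -/
  X : ℕ
  /-- a word for it -/
  w : List ℕ
  /-- the image of one plus the map -/
  I : ℕ
  /-- the exponent of the power with fixed points -/
  k : ℕ
  /-- the first fixed point -/
  r0 : ℕ
  /-- a word moving it to the base point -/
  wi : List ℕ
  /-- the map moving it -/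
  Di : ℕ
  /-- all fixed points -/
  fx : List Pt

/-- The data are coherent and the kernel has at most `K` points. -/
noncomputable def linOK (L : Lin) (K : ℕ) : Bool :=
  wordOK L.X L.w && fixOK L.X L.k L.r0 L.wi L.Di L.fx && imOK L.X L.I && kerOK L.X K

/-- At most `N` commuting maps fit the translation. -/
noncomputable def cntOK (L : Lin) (a N : ℕ) : Bool :=
  Nat.blt a 4096 && Nat.ble ((centL L.fx L.Di).countP (cok L.X L.I a a)) N

/-- No commuting map carries one translation to the other. -/
noncomputable def noneOK (L : Lin) (a a' : ℕ) : Bool :=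
  Nat.beq ((centL L.fx L.Di).countP (cok L.X L.I a a')) 0

open Dat

/-- The map of the class 4. -/
noncomputable def l4 : Lin := ⟨fourBX, fourBW, fourBI, 1, 7, fourBB, fourBD, fourBF⟩
/-- The map of the first class 8. -/
noncomputable def l8a : Lin := ⟨eightAX, eightAW, eightAI, 1, 7, eightAB, eightAD, eightAF⟩
/-- The map of the second class 8. -/
noncomputable def l8b : Lin := ⟨eightBX, eightBW, eightBI, 1, 7, eightBB, eightBD, eightBF⟩
/-- The map of the third class 8. -/
noncomputable def l8c : Lin := ⟨eightCX, eightCW, eightCI, 1, 7, eightCB, eightCD, eightCF⟩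
/-- The map of order five. -/
noncomputable def l5 : Lin := ⟨fiveX, fiveW, fiveI, 1, 7, fiveB, fiveD, fiveF⟩
/-- The map of the first class 12. -/
noncomputable def l12a : Lin := ⟨sixAX, sixAW, sixAI, 1, 7, sixAB, sixAD, sixAF⟩
/-- The map of the second class 12. -/
noncomputable def l12b : Lin := ⟨threeX, threeW, threeI, 1, 7, threeB, threeD, threeF⟩
/-- The map of the class 16. -/
noncomputable def l16 : Lin := ⟨eightX, eightW, eightI, 1, 7, eightB, eightD, eightF⟩
/-- The map of the classes 24. -/
noncomputable def l24 : Lin := ⟨twelveX, twelveW, twelveI, 3, 7, twelveB, twelveD, twelveF⟩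
/-- The map of order fifteen. -/
noncomputable def l15 : Lin := ⟨fifteenX, fifteenW, fifteenI, 3, 7, fifteenB, fifteenD, fifteenF⟩
/-- The map of the classes 40. -/
noncomputable def l40 : Lin := ⟨tenX, tenW, tenI, 1, 7, tenB, tenD, tenF⟩
/-- The map of order six above the scalar. -/
noncomputable def l6 : Lin := ⟨sixX, sixW, sixI, 3, 7, sixB, sixD, sixF⟩
/-- The map of order five with a long vector. -/
noncomputable def l10t : Lin := ⟨fiveTX, fiveTW, fiveTI, 1, 1096, fiveTB, fiveTD, fiveTF⟩
/-- The map of order six with a long vector. -/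
noncomputable def l12t : Lin := ⟨sixTX, sixTW, sixTI, 2, 1340, sixTB, sixTD, sixTF⟩

end Cfsg.Agent.J4Classes.CentZ
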