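import Cfsg.Agent.J4Classes.C.CertDefs

/-!
# The classes with sixty-nine fixed points
-/

set_option autoImplicit false
set_option maxRecDepth 100000
set_option Elab.async false

namespace Cfsg.Agent.J4Classes.CentZ

open J4Type.V11.AZ

theorem lin4 : linOK l4 256 = true := by decide +kernel

theorem cnt4 : cntOK l4 24 384 = true := by decide +kernel

theorem lin6 : linOK l6 1 = true := by decide +kernel

theorem cnt6 : cntOK l6 0 1152 = true := by decide +kernel


end Cfsg.Agent.J4Classes.CentZ
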