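import Cfsg.Agent.J4Classes.C.Power
import Cfsg.Agent.J4Type.V11.CentT

/-!
# Elements with an involution of the second kind of `E` as a power

Their centralisers normalise the elementary abelian group of order `2 ^ 11`, and there `z` is distinguished.
-/

set_option autoImplicit false
set_option maxRecDepth 100000

open Cfsg Subgroup

namespace Cfsg.Agent.J4Classes.CentZ

open LargeExtra (oc oc_le oc_conj_mem)
open J4Type J4Type.V11 J4Type.V11.AZ J4Type.Rep J4Type.Orbits

/-- The linear code of an element of the elementary abelian group. -/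
noncomputable def phiM (d : ℕ) : ℕ := enc (ql (Nat.div d 128))

/-- Its translation code. -/
noncomputable def phiV (d : ℕ) : ℕ := wv (Nat.mod d 64)

/-- An element of the group commutes with `x` up to `z`. -/
noncomputable def comD (X a d : ℕ) : Bool :=
  Nat.beq (mulP (phiM d) X) (mulP X (phiM d)) &&
    Nat.beq (Nat.xor (phiV d) (mulP (phiM d) a)) (Nat.xor a (mulP X (phiV d)))

/-- The element `d` times `c * x` lies over `x * c`. -/
noncomputable def imgD (X a c d : ℕ) : Bool :=
  Nat.beq (mulP (phiM d) (mulP (phiM c) X)) (mulP X (phiM c)) &&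
    Nat.beq (Nat.xor (phiV d) (mulP (phiM d) (Nat.xor (phiV c) (mulP (phiM c) a))))
      (Nat.xor a (mulP X (phiV c)))

/-- `z` is the only element of its class in the group commuting with `x`. -/
noncomputable def onlyZ (X a : ℕ) : Bool :=
  (List.range 2048).all fun d =>
    !comD X a d || (Nat.beq d 0 || Nat.beq d 64 || tB 370 d)

/-- `z` is the only element of its class commuting with `x` among the commutators with the group. -/
noncomputable def onlyZImg (X a : ℕ) : Bool :=
  (List.range 2048).all fun d =>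
    !comD X a d || (Nat.beq d 0 || Nat.beq d 64 || tB 370 d || (List.range 2048).all fun c => !imgD X a c d)

variable {G : Type*} [Group G] [Finite G] {z : G} {P : Subgroup G} {V : Type*} [AddCommGroup V]
  {π : ↥(oc z) →* Multiplicative V} {ρ : ↥(mSub z P) →* Equiv.Perm V} {q : V → ZMod 2} {B : List V}
  {S : Sys z P π ρ q B} {F : Frame S}

variable (F) in
theorem phi_code {d : ℕ} (hd : d < 2048) : Fib z P π ρ B (phiM d) (phiV d) (F.phi d) := by
  refine ⟨F.phi_mem_H d, ⟨ql (d / 128), Sys.ql_good S _, rfl, F.lin_phi hd⟩, ?_⟩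
  have he : F.phi (d % 64) * F.phi (64 * (d / 64 % 2)) ∈ oc z := by
    refine mul_mem (F.phi_oc (by omega)) (F.phi_oc ?_)
    rcases Nat.mod_two_eq_zero_or_one (d / 64) with h | h <;> rw [h] <;> norm_num
  rw [F.phi_split hd, (S.D.parts he (cSub_le_mSub z P (F.phi_high (by omega)).1)).2]
  rcases Nat.mod_two_eq_zero_or_one (d / 64) with h | h <;> rw [h]
  · rw [Nat.mul_zero, F.phi_zero, mul_one, F.vec_phi (by omega), Nat.mod_mod]; rfl
  · rw [Nat.mul_one, F.phi_z, vec_mul (F.phi_oc (by omega)) S.D.z_mem, S.D.vec_z, add_zero,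
      F.vec_phi (by omega), Nat.mod_mod]
    rfl

theorem phiV_lt (d : ℕ) : phiV d < 4096 := wv_lt _

variable (F) in
theorem mem_grp_code {y : G} {k : ℕ} (hk : k < 64) (hy : y ∈ oc z) (hv : vec π y = Rep.lin B (wv k)) :
    y = F.phi k ∨ y = F.phi (k ^^^ 64) := by
  have h := F.vec_phi (k := k) (by omega)
  rw [Nat.mod_eq_of_lt hk, ← hv] at h
  rcases S.D.vec_eq hy (F.phi_oc (by omega)) h.symm with e | e
  · exact Or.inl e
  · exact Or.inr (by rw [F.phi_xor, F.phi_z]; exact e)

variable (hF : F.Good)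
include hF

/-- The power is of the second kind and its centraliser normalises the group. -/
theorem power_long {w : G} {k : ℕ} (hk : k < 64) (hw : w ∈ oc z) (hv : vec π w = Rep.lin B (wv k))
    (hT : (tB 370 k && tB 370 (k ^^^ 64)) = true) :
    ¬ IsConj z w ∧ w * w = 1 ∧ w ≠ 1 ∧ centralizer ({w} : Set G) ≤ F.nrm := by
  rw [Bool.and_eq_true] at hT
  obtain ⟨d, hd, hTd, rfl⟩ : ∃ d < 2048, tB 370 d = true ∧ w = F.phi d := by
    rcases mem_grp_code F hk hw hv with e | e
    · exact ⟨k, by omega, hT.1, e⟩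
    · exact ⟨_, Nat.xor_lt_two_pow (n := 11) (by omega) (by norm_num), hT.2, e⟩
  have hs := (F.sec_iff hF hd).2 hTd
  refine ⟨hs.2, F.phi_sq d, fun e => hs.1 (F.phi_eq_one hd e), fun g hg => ?_⟩
  obtain ⟨n, hn, e⟩ := F.rel_all hd hs
  have hl : n⁻¹ * g * n ∈ F.nrm := by
    refine F.cent_le_nrm hF (F.mem_lc.2 ?_)
    have hgc : g * F.phi d = F.phi d * g := mem_centralizer_singleton_iff.1 hg
    rw [e] at hgc
    show n⁻¹ * g * n * F.tt = F.tt * (n⁻¹ * g * n)
    rw [Frame.tt, show t0 = 58 from rfl]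
    calc n⁻¹ * g * n * F.phi 58 = n⁻¹ * (g * (n * F.phi 58 * n⁻¹)) * n := by group
      _ = n⁻¹ * (n * F.phi 58 * n⁻¹ * g) * n := by rw [hgc]
      _ = F.phi 58 * (n⁻¹ * g * n) := by group
  have := mul_mem (mul_mem hn hl) (inv_mem hn)
  rwa [show n * (n⁻¹ * g * n) * n⁻¹ = g by group] at this

/-- The conjugates of `z` under the centraliser of `x`. -/
theorem conj_z_code {x g : G} {X a : ℕ} (hx : Fib z P π ρ B X a x) (ha : a < 4096)
    (hg : Commute g x) (hgN : g ∈ F.nrm) :
    ∃ d < 2048, g * z * g⁻¹ = F.phi d ∧ comD X a d = true ∧ d ≠ 0 ∧ tB 370 d = false := by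
  obtain ⟨d, hd, e⟩ := F.conj_mem hgN F.z_mem_grp
  have hne : F.phi d ≠ 1 := fun h => S.D.z_ne (conj_eq_one_iff.1 (e ▸ h))
  have hd0 : d ≠ 0 := fun h => hne (by rw [h, F.phi_zero])
  refine ⟨d, hd, e.symm, ?_, hd0, ?_⟩
  · have hc : F.phi d * x = x * F.phi d := by
      rw [e]
      exact ((hg.mul_left ((S.D.comm_z hx.1).symm)).mul_left hg.inv_left).eq
    have h1 := fib_mul S (phi_code F hd) hx ha
    have h2 := fib_mul S hx (phi_code F hd) (phiV_lt d)
    rw [hc] at h1
    obtain ⟨e1, e2⟩ := fib_inj_code S h1 h2 (xor_lt (phiV_lt d) ((phi_code F hd).2.1.lt ha))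
      (xor_lt ha (hx.2.1.lt (phiV_lt d)))
    simp only [comD, Bool.and_eq_true, Nat.beq_eq]
    exact ⟨e1, e2⟩
  · rw [← Bool.not_eq_true, ← F.sec_iff hF hd]
    exact fun h => h.2 (e ▸ isConj_iff.2 ⟨g, rfl⟩)

/-- The centraliser lies in `C(z)`. -/
theorem cent_le_long {x : G} {X a m k : ℕ} (hx : Fib z P π ρ B X a x) (ha : a < 4096) (hk : k < 64)
    (hpow : x ^ m ∈ oc z) (hv : vec π (x ^ m) = Rep.lin B (wv k))
    (hT : (tB 370 k && tB 370 (k ^^^ 64)) = true) (hz : onlyZ X a = true) :
    centralizer ({x} : Set G) ≤ centralizer ({z} : Set G) := by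
  intro g hg
  have hg' : Commute g x := mem_centralizer_singleton_iff.1 hg
  have hgN := (power_long hF hk hpow hv hT).2.2.2 (mem_centralizer_singleton_iff.2 (hg'.pow_right m).eq)
  obtain ⟨d, hd, e, hc, hd0, htB⟩ := conj_z_code hF hx ha hg' hgN
  have h := List.all_eq_true.1 hz d (List.mem_range.2 hd)
  simp only [hc, htB, Bool.not_true, Bool.or_false, Bool.false_or, Bool.or_eq_true, Nat.beq_eq] at h
  rw [h.resolve_left hd0, F.phi_z] at e
  exact mem_centralizer_singleton_iff.2 (mul_inv_eq_iff_eq_mul.1 e)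

/-- The centraliser lies in `C(z)`, `z` being a commutator. -/
theorem cent_le_long_img {x : G} {X a m u k j : ℕ} (hx : Fib z P π ρ B X a x) (ha : a < 4096) (hk : k < 64)
    (hpow : x ^ m ∈ oc z) (hv : vec π (x ^ m) = Rep.lin B (wv k))
    (hT : (tB 370 k && tB 370 (k ^^^ 64)) = true) (hflip : flipOK X a m u = true) (hj : j < 64)
    (hju : mulP (sumP X m) u = wv j) (hz : onlyZImg X a = true) :
    centralizer ({x} : Set G) ≤ centralizer ({z} : Set G) := by
  intro g hg
  have hg' : Commute g x := mem_centralizer_singleton_iff.1 hg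
  have hgN := (power_long hF hk hpow hv hT).2.2.2 (mem_centralizer_singleton_iff.2 (hg'.pow_right m).eq)
  obtain ⟨d, hd, e, hc, hd0, htB⟩ := conj_z_code hF hx ha hg' hgN
  obtain ⟨y, hy, hyv, hyx⟩ := exists_flip hF hx ha hflip
  rw [hju] at hyv
  have hyA : y ∈ F.grp := by
    rcases mem_grp_code F hj hy hyv with e' | e' <;> rw [e']
    · exact F.phi_mem (by omega)
    · exact F.phi_mem (Nat.xor_lt_two_pow (n := 11) (by omega) (by norm_num))
  obtain ⟨c, hc', ec⟩ := F.conj_mem hgN hyA
  have h := List.all_eq_true.1 hz d (List.mem_range.2 hd)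
  simp only [hc, htB, Bool.not_true, Bool.or_false, Bool.false_or, Bool.or_eq_true, Nat.beq_eq] at h
  rcases h with (h | h) | h
  · exact absurd h hd0
  · rw [h, F.phi_z] at e
    exact mem_centralizer_singleton_iff.2 (mul_inv_eq_iff_eq_mul.1 e)
  exfalso
  have himg : F.phi d * (F.phi c * x) = x * F.phi c := by
    rw [ec, ← e]
    have hx1 : g⁻¹ * x = x * g⁻¹ := hg'.inv_left.eq
    have hgx : g * x = x * g := hg'.eq
    calc g * z * g⁻¹ * (g * y * g⁻¹ * x) = g * z * y * (g⁻¹ * x) := by group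
      _ = g * (z * (y * x)) * g⁻¹ := by rw [hx1]; group
      _ = g * (x * y) * g⁻¹ := by
        rw [hyx, ← mul_assoc z (x * y) z,
          show z * (x * y) = x * y * z from (S.D.comm_z (mul_mem hx.1 (oc_le z hy))).eq.symm,
          mul_assoc (x * y) z z, S.D.zz, mul_one]
      _ = g * x * y * g⁻¹ := by group
      _ = _ := by rw [hgx]; group
  have hcx := fib_mul S (phi_code F hc') hx ha
  have h1 := fib_mul S (phi_code F hd) hcx (xor_lt (phiV_lt c) ((phi_code F hc').2.1.lt ha))
  have h2 := fib_mul S hx (phi_code F hc') (phiV_lt c)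
  rw [himg] at h1
  obtain ⟨e1, e2⟩ := fib_inj_code S h1 h2
    (xor_lt (phiV_lt d) ((phi_code F hd).2.1.lt (xor_lt (phiV_lt c) ((phi_code F hc').2.1.lt ha))))
    (xor_lt ha (hx.2.1.lt (phiV_lt c)))
  have hi := List.all_eq_true.1 h c (List.mem_range.2 hc')
  have : imgD X a c d = true := by
    simp only [imgD, Bool.and_eq_true, Nat.beq_eq]
    exact ⟨e1, e2⟩
  rw [this] at hi
  exact Bool.noConfusion hi

end Cfsg.Agent.J4Classes.CentZ
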