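import Cfsg.Agent.J4Classes.C.Kinds
import Mathlib.GroupTheory.GroupAction.Quotient

/-!
# The linear parts for elements of `E` and of `P ⊔ zpowers z`
-/

set_option autoImplicit false
set_option maxRecDepth 100000

open Cfsg Subgroup

namespace Cfsg.Agent.J4Classes.CentZ

open LargeExtra (oc oc_le)
open J4Type J4Type.V11 J4Type.V11.AZ J4Type.Rep J4Type.Orbits

/-- The images of the set under the four generators. -/
noncomputable def orbStep (S : ℕ) : ℕ :=
  List.rec (motive := fun _ => ℕ) S
    (fun r _ acc => cond (bit S r)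
      (gensP.foldr (fun g t => Nat.lor t (Nat.shiftLeft 1 (mulP g r))) acc) acc) (List.range 4096)

/-- The points reached from a vector in the given number of steps. -/
noncomputable def orbIt (u n : ℕ) : ℕ :=
  Nat.rec (motive := fun _ => ℕ) (Nat.shiftLeft 1 u) (fun _ S => orbStep S) n

/-- The orbit of a vector has at least `m` points. -/
noncomputable def orbOK' (u n m : ℕ) : Bool :=
  Nat.blt u 4096 && (fun S => Nat.ble m ((List.range 4096).filter (bit S)).length) (orbIt u n)

variable {G : Type*} [Group G] [Finite G] {z : G} {P : Subgroup G} {V : Type*} [AddCommGroup V]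
  {π : ↥(oc z) →* Multiplicative V} {ρ : ↥(mSub z P) →* Equiv.Perm V} {q : V → ZMod 2} {B : List V}

section Sys

variable (S : Sys z P π ρ q B)
include S

theorem orbIt_sound {u : ℕ} (hu : u < 4096) : ∀ n r, bit (orbIt u n) r = true →
    r < 4096 ∧ ∃ γ ∈ ρ.range, γ (Rep.lin B u) = Rep.lin B r := by
  intro n
  induction n with
  | zero =>
    intro r hr
    rw [bit_one hr]
    exact ⟨hu, 1, one_mem _, rfl⟩
  | succ n ih =>
    have gens : ∀ g ∈ gensP, ∃ γ ∈ ρ.range, Pk B γ g := by
      intro g hg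
      obtain ⟨k, hk, rfl⟩ := List.getElem_of_mem hg
      rw [← List.getD_eq_getElem _ 0 hk]
      exact gen_pk S hk
    show ∀ r, bit (orbStep (orbIt u n)) r = true → _
    unfold orbStep
    generalize orbIt u n = T at ih ⊢
    suffices hl : ∀ l : List ℕ, ∀ r, bit (List.rec (motive := fun _ => ℕ) T
        (fun r _ acc => cond (bit T r)
          (gensP.foldr (fun g t => Nat.lor t (Nat.shiftLeft 1 (mulP g r))) acc) acc) l) r = true →
        r < 4096 ∧ ∃ γ ∈ ρ.range, γ (Rep.lin B u) = Rep.lin B r from fun r hr => hl (List.range 4096) r hr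
    intro l
    induction l with
    | nil => exact fun r hr => ih r hr
    | cons s l ihl =>
      intro r hr
      cases hs : bit T s
      · simp only [hs, cond_false] at hr
        exact ihl r hr
      · simp only [hs, cond_true] at hr
        obtain ⟨hs', γ, hγ, hγs⟩ := ih s hs
        suffices hg : ∀ gs : List ℕ, (∀ g ∈ gs, g ∈ gensP) → ∀ acc,
            (∀ r, bit acc r = true → r < 4096 ∧ ∃ γ ∈ ρ.range, γ (Rep.lin B u) = Rep.lin B r) →
            ∀ r, bit (gs.foldr (fun g t => Nat.lor t (Nat.shiftLeft 1 (mulP g s))) acc) r = true →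
              r < 4096 ∧ ∃ γ ∈ ρ.range, γ (Rep.lin B u) = Rep.lin B r from
          hg gensP (fun g h => h) _ ihl r hr
        intro gs
        induction gs with
        | nil => exact fun _ acc h => h
        | cons g gs ihg =>
          intro hmem acc h r hr
          rcases bit_insert.1 hr with h' | h'
          · exact ihg (fun g h => hmem g (List.mem_cons_of_mem _ h)) acc h r h'
          · obtain ⟨ε, hε, hεg⟩ := gens g (hmem g List.mem_cons_self)
            subst h'
            exact ⟨hεg.lt hs', ε * γ, mul_mem hε hγ, by rw [Equiv.Perm.mul_apply, hγs, hεg.apply hs']⟩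

/-- Few linear maps fix a vector with a long orbit. -/
theorem card_lin_one {u n m N I : ℕ} (h : orbOK' u n m = true) (hm : 2661120 ≤ N * m) (hm0 : 0 < m)
    (hI : I = 1) :
    Nat.card {γ : Equiv.Perm V // γ ∈ ρ.range ∧ ∃ Y, Pk B γ Y ∧ cok idP I u u Y = true} ≤ N := by
  classical
  have hV := S.M.fin
  subst hI
  simp only [orbOK', Bool.and_eq_true, Nat.blt_eq, Nat.ble_eq] at h
  obtain ⟨hu, hlen⟩ := h
  set O := ((List.range 4096).filter (bit (orbIt u n))).toFinset with hO
  have hcard : m ≤ O.card := by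
    rw [hO, List.toFinset_card_of_nodup (List.nodup_range.filter _)]; exact hlen
  set X := MulAction.orbit ↥ρ.range (Rep.lin B u)
  have h1 : O.card ≤ Nat.card X := by
    rw [← Nat.card_eq_finsetCard]
    refine Nat.card_le_card_of_injective (fun r => ⟨Rep.lin B r.1, ?_⟩) fun r s e => Subtype.ext ?_
    · obtain ⟨-, γ, hγ, e⟩ := orbIt_sound S hu n r.1 (List.mem_filter.1 (List.mem_toFinset.1 r.2)).2
      exact ⟨⟨γ, hγ⟩, e⟩
    · have hr := (orbIt_sound S hu n r.1 (List.mem_filter.1 (List.mem_toFinset.1 r.2)).2).1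
      have hs := (orbIt_sound S hu n s.1 (List.mem_filter.1 (List.mem_toFinset.1 s.2)).2).1
      exact S.lin_lt_inj hr hs (congrArg Subtype.val e)
  have h2 := Nat.card_congr (MulAction.orbitProdStabilizerEquivGroup ↥ρ.range (Rep.lin B u))
  rw [Nat.card_prod, S.card_range] at h2
  refine le_trans (Nat.card_le_card_of_injective (β := MulAction.stabilizer ↥ρ.range (Rep.lin B u))
    (fun γ => ⟨⟨γ.1, γ.2.1⟩, ?_⟩) fun γ δ e => Subtype.ext (congrArg (fun w => (w.1 : Equiv.Perm V)) e)) ?_
  · obtain ⟨-, Y, hY, hc⟩ := γ.2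
    simp only [cok, Bool.and_eq_true] at hc
    have h0 := bit_one (r := 0) (by simpa using hc.2)
    show γ.1 (Rep.lin B u) = Rep.lin B u
    rw [hY.apply hu]
    exact congrArg _ (Nat.xor_eq_zero_iff.1 h0).symm
  · by_contra hlt
    have h3 : m * (N + 1) ≤ 2661120 := by
      rw [← h2]
      exact Nat.mul_le_mul (hcard.trans h1) (by omega)
    rw [Nat.mul_add, Nat.mul_one, Nat.mul_comm] at h3
    omega

/-- The maps commuting with the scalar are at most half of the group. -/
theorem card_lin_scalar {I : ℕ} :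
    Nat.card {γ : Equiv.Perm V // γ ∈ ρ.range ∧ ∃ Y, Pk B γ Y ∧ cok wP I 0 0 Y = true} ≤ 1330560 := by
  classical
  have hV := S.M.fin
  have hg := gens_good
  simp only [Bool.and_eq_true] at hg
  obtain ⟨ω, hω, eω⟩ := S.M.word Wit.wordW
  rw [wordW_eq] at eω
  obtain ⟨σ, hσ, eσ⟩ := S.M.exists_sigma
  have hωp : Pk B ω wP := ⟨Wm, hg.1.2, (Nat.eq_of_beq_eq_true wP_eq).symm, eω⟩
  set C := centralizer ({(⟨ω, S.M.le hω⟩ : ↥ρ.range)} : Set ↥ρ.range)
  have hlt : Nat.card C ≤ 1330560 := by
    have hd := Subgroup.card_subgroup_dvd_card C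
    have hne : Nat.card C ≠ Nat.card ↥ρ.range := fun e => by
      have htop : C = ⊤ := (Subgroup.card_eq_iff_eq_top C).1 e
      have hc : (⟨σ, hσ⟩ : ↥ρ.range) ∈ C := htop ▸ mem_top _
      have hc' : σ * ω = ω * σ := congrArg Subtype.val (mem_centralizer_singleton_iff.1 hc)
      have h1 := eσ.mul eω
      rw [hc'] at h1
      have hS := Sg_W
      simp only [Bool.and_eq_true, Bool.not_eq_true'] at hS
      have := S.M.code_unique h1 (eω.mul eσ) (good_comp hg.1.1.2 hg.1.2) (good_comp hg.1.2 hg.1.1.2)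
      exact absurd (eqM_iff.2 this) (by rw [hS.2]; decide)
    rw [S.card_range] at hd hne
    obtain ⟨t, ht⟩ := hd
    rcases Nat.lt_or_ge t 2 with h | h
    · interval_cases t <;> omega
    · have := Nat.mul_le_mul_left (Nat.card C) h
      omega
  refine le_trans (Nat.card_le_card_of_injective (β := C) (fun γ => ⟨⟨γ.1, γ.2.1⟩, ?_⟩)
    fun γ δ e => Subtype.ext (congrArg (fun w => (w.1 : Equiv.Perm V)) e)) hlt
  obtain ⟨-, Y, hY, hc⟩ := γ.2
  simp only [cok, Bool.and_eq_true, Nat.beq_eq] at hc
  refine mem_centralizer_singleton_iff.2 (Subtype.ext ?_)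
  exact Pk.inj S (hY.mul hωp) (hc.1 ▸ hωp.mul hY)

end Sys

end Cfsg.Agent.J4Classes.CentZ
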