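import Cfsg.Agent.J4Classes.C.CertDefs
import Cfsg.Agent.J4Classes.C.Whole
import Cfsg.Agent.J4Classes.C.Long

/-!
# Powers, halving vectors and invariants
-/

set_option autoImplicit false
set_option maxRecDepth 100000
set_option Elab.async false

namespace Cfsg.Agent.J4Classes.CentZ

open J4Type.V11.AZ

/-- A class with `z` as a power: the power, the halving vector and the order. -/
noncomputable def zRow (X a m u : ℕ) : Bool := zOK X a m && flipOK X a m u && oddDiv X (2 * m)

theorem pow_rows : (zRow l4.X 24 1 73 && zRow l8a.X 8 2 1 && zRow l8b.X 8 2 2 && zRow l8c.X 1024 2 2 &&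
    zRow l5.X 689 5 2 && zRow l5.X 694 5 2 && zRow l12a.X 2303 3 7 && zRow l12b.X 257 3 1 &&
    zRow l16.X 8 4 73 && zRow l24.X 1024 6 73 && zRow l24.X 2287 6 24 && zRow l40.X 8 10 32 &&
    zRow l40.X 32 10 8) = true := by decide +kernel

theorem fix_rows : (!Nat.beq (fixS l8a.X) (fixS l8b.X) && !Nat.beq (fixS l8a.X) (fixS l8c.X) &&
    !Nat.beq (fixS l8b.X) (fixS l8c.X)) = true := by decide +kernel

theorem pow_three : (Nat.beq (powP l12b.X 3) idP && !Nat.beq (powP l12a.X 3) idP && !Nat.beq l4.X idP) = true := by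
  decide +kernel

theorem five_rows : (Nat.beq (powP l5.X 5) idP && Nat.beq (mulP (sumP l5.X 5) 0) 0 && oddDiv l5.X 5) = true := by
  decide +kernel

theorem fifteen_rows : (Nat.beq (powP l15.X 15) idP && Nat.beq (mulP (sumP l15.X 15) 0) 0 && oddDiv l15.X 15 &&
    !Nat.beq (powP l15.X 3) idP && !Nat.beq (powP l15.X 5) idP &&
    Nat.beq (powP l15.X 10) wP && Nat.beq (mulP (sumP l15.X 10) 0) 0) = true := by decide +kernel

theorem six_rows : (Nat.beq (powP l6.X 3) (sigOf 0) && Nat.beq (mulP (sumP l6.X 3) 0) 0 && oddDiv l6.X 3 &&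
    Nat.beq (powP l6.X 4) wP && Nat.beq (mulP (sumP l6.X 4) 0) 0 && Nat.beq (powP l6.X 6) idP &&
    Nat.beq (mulP (sumP l6.X 6) 0) 0 && Nat.beq (zW 0 0) 1 && Nat.beq (tW 0 0) 1) = true := by decide +kernel

theorem ten_rows : (Nat.beq (powP l10t.X 5) idP && Nat.beq (mulP (sumP l10t.X 5) 1983) (J4Type.V11.wv 58) &&
    oddDiv l10t.X 5 && flipOK l10t.X 1983 5 1 && onlyZ l10t.X 1983) = true := by decide +kernel

theorem twelve_rows : (Nat.beq (powP l12t.X 6) idP && Nat.beq (mulP (sumP l12t.X 6) 1024) (J4Type.V11.wv 58) &&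
    oddDiv l12t.X 6 && flipOK l12t.X 1024 6 1 && Nat.beq (mulP (sumP l12t.X 6) 1) (J4Type.V11.wv 8) &&
    onlyZImg l12t.X 1024) = true := by decide +kernel

theorem long_kind : (J4Type.V11.tB 370 58 && J4Type.V11.tB 370 (58 ^^^ 64)) = true := by decide +kernel

theorem scalar_rows : (oddDiv wP 3 && imOK wP (Nat.shiftLeft 1 4096 - 1) && kerOK wP 1 &&
    Nat.beq (powP wP 3) idP) = true := by decide +kernel

/-- A vector of value one, its orbit and the halving vector. -/
theorem whole_rows : (J4Type.Orbits.bit J4Type.V11.AZ.qBits 8 && orbOK' 8 11 2016 && imOK idP 1 && kerOK idP 4096 &&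
    zRow idP 8 1 16) = true := by decide +kernel

end Cfsg.Agent.J4Classes.CentZ
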