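import Cfsg.Agent.J4Classes.C.CertDefs

/-!
# The counts of the remaining classes
-/

set_option autoImplicit false
set_option maxRecDepth 100000
set_option Elab.async false

namespace Cfsg.Agent.J4Classes.CentZ

open J4Type.V11.AZ

theorem lin8a : linOK l8a 64 = true := by decide +kernel

theorem cnt8a : cntOK l8a 8 20 = true := by decide +kernel

theorem lin8b : linOK l8b 16 = true := by decide +kernel

theorem cnt8b : cntOK l8b 8 32 = true := by decide +kernel

theorem lin8c : linOK l8c 16 = true := by decide +kernel

theorem cnt8c : cntOK l8c 1024 48 = true := by decide +kernel

theorem lin5 : linOK l5 16 = true := by decide +kernel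

theorem cnt5 : cntOK l5 0 30 = true := by decide +kernel

theorem cnt20a : cntOK l5 689 10 = true := by decide +kernel

theorem cnt20b : cntOK l5 694 10 = true := by decide +kernel

theorem none20 : noneOK l5 689 694 = true := by decide +kernel

theorem lin12a : linOK l12a 16 = true := by decide +kernel

theorem cnt12a : cntOK l12a 2303 12 = true := by decide +kernel

theorem lin12b : linOK l12b 16 = true := by decide +kernel

theorem cnt12b : cntOK l12b 257 12 = true := by decide +kernel

theorem lin16 : linOK l16 4 = true := by decide +kernel

theorem cnt16 : cntOK l16 8 8 = true := by decide +kernel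

theorem lin24 : linOK l24 4 = true := by decide +kernel

theorem cnt24a : cntOK l24 1024 12 = true := by decide +kernel

theorem cnt24b : cntOK l24 2287 12 = true := by decide +kernel

theorem none24 : noneOK l24 1024 2287 = true := by decide +kernel

theorem lin15 : linOK l15 1 = true := by decide +kernel

theorem cnt15 : cntOK l15 0 15 = true := by decide +kernel

theorem lin40 : linOK l40 4 = true := by decide +kernel

theorem cnt40a : cntOK l40 8 10 = true := by decide +kernel

theorem cnt40b : cntOK l40 32 10 = true := by decide +kernel

theorem none40 : noneOK l40 8 32 = true := by decide +kernel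

theorem lin10t : linOK l10t 16 = true := by decide +kernel

theorem cnt10t : cntOK l10t 1983 5 = true := by decide +kernel

theorem lin12t : linOK l12t 4 = true := by decide +kernel

theorem cnt12t : cntOK l12t 1024 12 = true := by decide +kernel


end Cfsg.Agent.J4Classes.CentZ
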