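import Cfsg.Agent.J4Classes.C.Power
import Cfsg.Agent.J4Type.V11.SylModel
import Cfsg.Agent.J4Type.CoverTheorem
import Cfsg.Agent.J4Type.Order.LargeFacts

/-!
# Telling classes apart, and elements with a power in `P`
-/

set_option autoImplicit false
set_option maxRecDepth 100000

open Cfsg Subgroup

namespace Cfsg.Agent.J4Classes.CentZ

open LargeExtra (oc oc_le)
open J4Type J4Type.V11 J4Type.V11.AZ J4Type.Rep J4Type.Orbits

/-- The points of the short orbit fixed by a map. -/
noncomputable def fixS (X : ℕ) : ℕ :=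
  ((List.range 4096).filter fun r => bit Short.orbBits r && Nat.beq (mulP X r) r).length

variable {G : Type*} [Group G] [Finite G] {z : G} {P : Subgroup G} {V : Type*} [AddCommGroup V]
  {π : ↥(oc z) →* Multiplicative V} {ρ : ↥(mSub z P) →* Equiv.Perm V} {q : V → ZMod 2} {B : List V}

omit [Finite G] in
/-- Elements having `z` as the same power are conjugate only inside `C(z)`. -/
theorem mem_of_conj {x x' g : G} {n : ℕ} (h : g * x * g⁻¹ = x') (h1 : x ^ n = z) (h2 : x' ^ n = z) :
    g ∈ centralizer ({z} : Set G) := by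
  refine mem_centralizer_singleton_iff.2 (mul_inv_eq_iff_eq_mul.1 ?_)
  rw [← h, conj_pow, h1] at h2
  exact h2

section Sys

variable (S : Sys z P π ρ q B)
include S

theorem fixNum_code {δ : Equiv.Perm V} {X : ℕ} (h : Pk B δ X) : fixNum B δ = fixS X := by
  classical
  rw [fixNum, fixS, ← List.toFinset_card_of_nodup (List.nodup_range.filter _)]
  refine congrArg Finset.card (Finset.ext fun r => ?_)
  simp only [Finset.mem_filter, Finset.mem_range, List.mem_toFinset, List.mem_filter, List.mem_range,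
    Bool.and_eq_true]
  refine and_congr_right fun hr => and_congr_right fun _ => ?_
  rw [h.apply hr]
  exact ⟨fun e => by rw [S.lin_lt_inj (h.lt hr) hr e]; exact Nat.beq_refl _,
    fun e => by rw [Nat.eq_of_beq_eq_true e]⟩

/-- Conjugation inside `C(z)` on the linear parts. -/
theorem lin_conj {x y : G} {X X' a a' : ℕ} {g : G} (hg : g ∈ centralizer ({z} : Set G))
    (hx : Fib z P π ρ B X a x) (hy : Fib z P π ρ B X' a' y) (h : g * x * g⁻¹ = y) :
    ∃ γ ∈ ρ.range, ∃ δ δ' : Equiv.Perm V, Pk B δ X ∧ Pk B δ' X' ∧ γ * δ * γ⁻¹ = δ' := by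
  refine ⟨_, S.D.lin_mem hg, _, _, hx.2.1, hy.2.1, ?_⟩
  rw [← h, (S.D.lin_mul (mul_mem hg hx.1) (inv_mem hg)).1, (S.D.lin_mul hg hx.1).1, S.D.lin_inv hg]

/-- Different numbers of fixed points. -/
theorem not_conj_fix {x y : G} {X X' a a' n : ℕ} (hx : Fib z P π ρ B X a x) (hy : Fib z P π ρ B X' a' y)
    (h1 : x ^ n = z) (h2 : y ^ n = z) (hne : Nat.beq (fixS X) (fixS X') = false) : ¬ IsConj x y := by
  intro hc
  obtain ⟨g, hg⟩ := isConj_iff.1 hc
  obtain ⟨γ, hγ, δ, δ', hδ, hδ', e⟩ := lin_conj S (mem_of_conj hg h1 h2) hx hy hg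
  rw [← fixNum_code S hδ, ← fixNum_code S hδ', ← e, fixNum_conj S hγ, Nat.beq_refl] at hne
  exact Bool.noConfusion hne

/-- Different orders of the linear parts. -/
theorem not_conj_pow {x y : G} {X X' a a' n k : ℕ} (hx : Fib z P π ρ B X a x) (hy : Fib z P π ρ B X' a' y)
    (h1 : x ^ n = z) (h2 : y ^ n = z) (hX : powP X k = idP) (hX' : Nat.beq (powP X' k) idP = false) :
    ¬ IsConj x y := by
  intro hc
  obtain ⟨g, hg⟩ := isConj_iff.1 hc
  obtain ⟨γ, hγ, δ, δ', hδ, hδ', e⟩ := lin_conj S (mem_of_conj hg h1 h2) hx hy hg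
  have hk := pk_pow S hδ' k
  rw [← e, conj_pow, Pk.inj S (pk_pow S hδ k) (hX ▸ pk_one S), mul_one, mul_inv_cancel] at hk
  rw [← Pk.unique S (pk_one S) hk, Nat.beq_refl] at hX'
  exact Bool.noConfusion hX'

/-- Translations in different orbits. -/
theorem not_conj_trans {x y : G} {X I a a' n k r0 Di : ℕ} {w wi : List ℕ} {fx : List Pt}
    (hw : wordOK X w = true) (hfx : fixOK X k r0 wi Di fx = true) (hI : imOK X I = true)
    (hx : Fib z P π ρ B X a x) (hy : Fib z P π ρ B X a' y) (ha : a < 4096) (ha' : a' < 4096)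
    (h1 : x ^ n = z) (h2 : y ^ n = z)
    (hno : Nat.beq ((centL fx Di).countP (cok X I a a')) 0 = true) : ¬ IsConj x y := by
  intro hc
  obtain ⟨g, hg⟩ := isConj_iff.1 hc
  have hgH := mem_of_conj hg h1 h2
  obtain ⟨Y, b, hb, hf, hr⟩ := exists_code_of_mem S hgH
  obtain ⟨hc', -⟩ := cok_of_move S hI hx hy hf ha ha' hb (Or.inl (mul_inv_eq_iff_eq_mul.1 hg))
  have hcm : mulP Y X = mulP X Y := Nat.eq_of_beq_eq_true (Bool.and_eq_true_iff.1 hc').1
  have hm := mem_centL S hw hfx hr hf.2.1 hcm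
  have h0 := List.countP_eq_zero.1 (Nat.eq_of_beq_eq_true hno) Y hm
  exact h0 hc'

end Sys

variable {S : Sys z P π ρ q B} {F : Frame S}

variable (F) in
theorem p_fib : Fib z P π ρ B wP 0 F.p := by
  obtain ⟨h1, h2⟩ := S.D.lin_mSub F.p_m
  refine ⟨F.p_m.1, ?_, h2.trans (Rep.lin_zero B).symm⟩
  rw [h1]
  have hg := gens_good
  simp only [Bool.and_eq_true] at hg
  exact ⟨Wm, hg.1.2, (Nat.eq_of_beq_eq_true wP_eq).symm, F.p_act⟩

theorem wP_ne : wP ≠ idP := by decide +kernel

variable (F) in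
theorem orderOf_p : orderOf F.p = 3 := by
  have hP : Nat.card ↥P = 3 := S.D.hJ.2.2.2.2.2.1
  exact ((Nat.dvd_prime Nat.prime_three).1 (hP ▸ P.orderOf_dvd_natCard F.p_mem)).resolve_left
    fun h => ne_one_of_code S (p_fib F) wP_ne (orderOf_eq_one_iff.1 h)

variable (F) in
theorem zpowers_p : zpowers F.p = P :=
  eq_of_le_of_card_ge (zpowers_le.2 F.p_mem)
    (by rw [Nat.card_zpowers, orderOf_p F, S.D.hJ.2.2.2.2.2.1])

/-- A cube root of one over the scalar without translation is the generator of `P`. -/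
theorem eq_p {h : G} (hh : Fib z P π ρ B wP 0 h) (h3 : h ^ 3 = 1) : h = F.p := by
  rcases fib_pair S (p_fib F) hh with e | e
  · exact e
  · exfalso
    rw [e, (S.D.comm_z F.p_m.1).mul_pow 3, show F.p ^ 3 = 1 from orderOf_p F ▸ pow_orderOf_eq_one F.p, one_mul, pow_succ,
      pow_two, S.D.zz, one_mul] at h3
    exact S.D.z_ne h3

variable (F) in
theorem cent_p [IsSimpleGroup G] (hG : ¬ IsMulCommutative G) :
    centralizer ({F.p} : Set G) ≤ centralizer ({z} : Set G) := by
  have hN := (J4Type.sixfold hG S.D.hJ).2.2.2.2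
  intro g hg
  refine hN (centralizer_le_normalizer _ ?_)
  rw [← zpowers_p F, J4Type.LargePrime.centralizer_zpowers]
  exact hg

/-- An element with a power over the scalar. -/
theorem cent_le_P [IsSimpleGroup G] (hG : ¬ IsMulCommutative G) {x : G} {k : ℕ}
    (he : x ^ k = F.p) : centralizer ({x} : Set G) ≤ centralizer ({z} : Set G) := fun g hg => by
  refine cent_p F hG (mem_centralizer_singleton_iff.2 ?_)
  rw [← he]
  exact ((show Commute g x from mem_centralizer_singleton_iff.1 hg).pow_right k).eq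

omit [Finite G] in
/-- An element having `z` as a power. -/
theorem cent_le_z {x : G} {n : ℕ} (he : x ^ n = z) :
    centralizer ({x} : Set G) ≤ centralizer ({z} : Set G) := fun g hg => by
  refine mem_centralizer_singleton_iff.2 ?_
  rw [← he]
  exact ((show Commute g x from mem_centralizer_singleton_iff.1 hg).pow_right n).eq

end Cfsg.Agent.J4Classes.CentZ
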