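import Cfsg.Agent.J4Classes.Defs
import Cfsg.Agent.J4Classes.C.ChecksPow
import Cfsg.Agent.J4Classes.C.ChecksSmall
import Cfsg.Agent.J4Classes.C.ChecksBig

/-!
# The families of classes computed in the centraliser of `z`
-/

set_option autoImplicit false
set_option maxRecDepth 100000

open Cfsg Subgroup

namespace Cfsg.Agent.J4Classes.CentZ

open LargeExtra (oc oc_le)
open J4Type J4Type.V11 J4Type.V11.AZ J4Type.Rep J4Type.Orbits

section Fam

variable {G : Type*} [Group G] {z : G} {n : ℕ} {kz : Bool}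

/-- What is shown for one class. -/
def One (z : G) (n : ℕ) (kz : Bool) (c : ℕ) (x : G) : Prop :=
  orderOf x = n ∧ Nat.card (centralizer ({x} : Set G)) ≤ c ∧
    (Even n → (IsConj z (x ^ (n / 2)) ↔ kz = true))

theorem fam1 {a : ℕ} {x : G} (hx : One z n kz a x) : Fam z n kz [a] :=
  ⟨fun _ => x, fun i => by fin_cases i; exact hx, fun i j h => by fin_cases i; fin_cases j; exact absurd rfl h⟩

theorem fam2 {a b : ℕ} {x y : G} (hx : One z n kz a x) (hy : One z n kz b y) (h : ¬ IsConj x y) :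
    Fam z n kz [a, b] := by
  refine ⟨![x, y], fun i => ?_, fun i j hij => ?_⟩
  · fin_cases i <;> assumption
  · fin_cases i <;> fin_cases j
    exacts [absurd rfl hij, h, fun h' => h h'.symm, absurd rfl hij]

theorem fam3 {a b c : ℕ} {x y w : G} (hx : One z n kz a x) (hy : One z n kz b y) (hw : One z n kz c w)
    (h1 : ¬ IsConj x y) (h2 : ¬ IsConj x w) (h3 : ¬ IsConj y w) : Fam z n kz [a, b, c] := by
  refine ⟨![x, y, w], fun i => ?_, fun i j hij => ?_⟩
  · fin_cases i <;> assumption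
  · fin_cases i <;> fin_cases j
    exacts [absurd rfl hij, h1, h2, fun h => h1 h.symm, absurd rfl hij, h3, fun h => h2 h.symm,
      fun h => h3 h.symm, absurd rfl hij]

theorem one_z {c m : ℕ} {x : G} (hn : n = 2 * m) (ho : orderOf x = n)
    (hc : Nat.card (centralizer ({x} : Set G)) ≤ c) (hz : x ^ m = z) : One z n true c x :=
  ⟨ho, hc, fun _ => by rw [hn, Nat.mul_div_cancel_left m (by norm_num), hz]; exact iff_of_true (IsConj.refl z) rfl⟩

theorem one_t {c m : ℕ} {x : G} (hn : n = 2 * m) (ho : orderOf x = n)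
    (hc : Nat.card (centralizer ({x} : Set G)) ≤ c) (hz : ¬ IsConj z (x ^ m)) : One z n false c x :=
  ⟨ho, hc, fun _ => by rw [hn, Nat.mul_div_cancel_left m (by norm_num)]; exact iff_of_false hz Bool.false_ne_true⟩

end Fam

variable {G : Type*} [Group G] [Finite G] {z : G} {P : Subgroup G} {V : Type*} [AddCommGroup V]
  {π : ↥(oc z) →* Multiplicative V} {ρ : ↥(mSub z P) →* Equiv.Perm V} {q : V → ZMod 2} {B : List V}

omit [Finite G] [AddCommGroup V] in
/-- A translation of a checked count is a code. -/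
theorem cnt_lt {L : Lin} {a N : ℕ} (hN : cntOK L a N = true) : a < 4096 := by
  simp only [cntOK, Bool.and_eq_true, Nat.blt_eq] at hN
  exact hN.1

omit [Finite G] in
/-- A fibre meeting a class has an element in it. -/
theorem fib_of_ne {j : ℕ} {u : G} (h : fibNum z P π ρ B u (sigOf j) 0 ≠ 0) :
    ∃ g, Fib z P π ρ B (sigOf j) 0 g ∧ IsConj u g := by
  obtain ⟨⟨g, hg⟩⟩ := (Nat.card_ne_zero.1 h).1
  exact ⟨g, hg⟩

section Sys

variable (S : Sys z P π ρ q B)
include S

theorem exists_over {L : Lin} {K : ℕ} (hL : linOK L K = true) (a : ℕ) :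
    ∃ x, Fib z P π ρ B L.X a x := by
  simp only [linOK, Bool.and_eq_true] at hL
  obtain ⟨δ, hδ, hp⟩ := word_code S hL.1.1.1
  exact exists_fib S hδ hp a

/-- The bound before halving. -/
theorem bound_CZ {L : Lin} {K a N : ℕ} (hL : linOK L K = true) (hN : cntOK L a N = true) {x : G}
    (hx : Fib z P π ρ B L.X a x) : Nat.card {y : G // CZ z x y} ≤ 2 * (N * K) := by
  simp only [linOK, Bool.and_eq_true] at hL
  simp only [cntOK, Bool.and_eq_true, Nat.blt_eq] at hN
  exact card_CZ S hL.1.2 hL.2 (card_lin S hL.1.1.1 hL.1.1.2 hN.2) hx hN.1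

/-- Translations in different orbits give different classes. -/
theorem not_conj_none {L : Lin} {K a a' n : ℕ} (hL : linOK L K = true) (ha : a < 4096) (ha' : a' < 4096)
    (hno : noneOK L a a' = true) {x y : G} (hx : Fib z P π ρ B L.X a x) (hy : Fib z P π ρ B L.X a' y)
    (h1 : x ^ n = z) (h2 : y ^ n = z) : ¬ IsConj x y := by
  simp only [linOK, Bool.and_eq_true] at hL
  exact not_conj_trans S hL.1.1.1 hL.1.1.2 hL.1.2 hx hy ha ha' h1 h2 hno

/-- A lift with the odd power `z`. -/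
theorem exists_odd_lift {X n : ℕ} {w : G} (hw : Fib z P π ρ B X 0 w) (hn : Odd n)
    (hX : powP X n = idP) (hs : mulP (sumP X n) 0 = 0) :
    ∃ x, Fib z P π ρ B X 0 x ∧ x ^ n = z ∧ (x * z) ^ n = 1 := by
  have h := fib_pow S hw (by norm_num) n
  rw [hX, hs] at h
  have hzn : z ^ n = z := by
    obtain ⟨k, rfl⟩ := hn
    rw [pow_succ, pow_mul, pow_two, S.D.zz, one_pow, one_mul]
  have hwz : (w * z) ^ n = w ^ n * z := by rw [(S.D.comm_z hw.1).mul_pow n, hzn]
  rcases fib_idP_zero S h with e | e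
  · refine ⟨w * z, fib_mul_z S hw, by rw [hwz, e, one_mul], ?_⟩
    rw [mul_assoc, S.D.zz, mul_one, e]
  · exact ⟨w, hw, e, by rw [hwz, e, S.D.zz]⟩

end Sys

variable {S : Sys z P π ρ q B} {F : Frame S} (hF : F.Good)
include hF

/-- A class with `z` as a power and a halving vector. -/
theorem z_class {L : Lin} {K a N m u : ℕ} (hL : linOK L K = true) (hN : cntOK L a N = true)
    (hr : zRow L.X a m u = true) (hm : 0 < m) :
    ∃ x, Fib z P π ρ B L.X a x ∧ x ^ (2 * m) = z ∧ One z (4 * m) true (N * K) x := by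
  simp only [zRow, Bool.and_eq_true] at hr
  obtain ⟨x, hx⟩ := exists_over S hL a
  have ha := cnt_lt hN
  have hz := pow_eq_z hF hx ha hr.1.1
  have hH := cent_le_z hz
  obtain ⟨y, hy, -, hyx⟩ := exists_flip hF hx ha hr.1.2
  have h1 := card_cent_half S hH (oc_le z hy) hyx
  have h2 := bound_CZ S hL hN hx
  refine ⟨x, hx, hz, one_z (m := 2 * m) (by ring) ?_ (by omega) hz⟩
  rw [orderOf_of_half S hx ha (by omega) hz S.D.zz S.D.z_ne hr.2]
  ring

theorem fam4 : Fam z 4 true [5406720, 98304] := by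
  obtain ⟨y, hy, hyz, hy1⟩ := z_class hF lin4 cnt4
    (m := 1) (u := 73) (by
      have h := pow_rows; simp only [Bool.and_eq_true] at h; exact h.1.1.1.1.1.1.1.1.1.1.1.1) (by norm_num)
  have hr := whole_rows
  simp only [Bool.and_eq_true] at hr
  obtain ⟨⟨⟨⟨-, hO⟩, hI⟩, hK⟩, hzr⟩ := hr
  simp only [zRow, Bool.and_eq_true] at hzr
  obtain ⟨x, hx⟩ := exists_fib S (one_mem ρ.range) (pk_one S) 8
  have hz := pow_eq_z hF hx (by norm_num) hzr.1.1
  obtain ⟨e, he, -, hex⟩ := exists_flip hF hx (by norm_num) hzr.1.2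
  have h1 := card_cent_half S (cent_le_z hz) (oc_le z he) hex
  have h2 := card_CZ S hI hK (card_lin_one S (N := 1320) hO (by norm_num) (by norm_num) rfl) hx
    (by norm_num)
  refine fam2 (one_z (m := 2) rfl ?_ (by omega) hz) hy1 ?_
  · exact (orderOf_of_half S hx (by norm_num) (by norm_num) hz S.D.zz S.D.z_ne hzr.2).trans (by norm_num)
  · have h := pow_three
    simp only [Bool.and_eq_true, Bool.not_eq_true'] at h
    refine not_conj_pow S hx hy hz hyz (k := 1) (by decide +kernel) ?_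
    have e1 : powP l4.X 1 = l4.X := Pk.unique S (by simpa using pk_pow S hy.2.1 1) hy.2.1
    rw [e1]
    exact h.2

theorem fam8 : Fam z 8 true [1280, 512, 768] := by
  have h := pow_rows
  simp only [Bool.and_eq_true] at h
  obtain ⟨x, hx, hxz, hx1⟩ := z_class hF lin8a cnt8a h.1.1.1.1.1.1.1.1.1.1.1.2 (by norm_num)
  obtain ⟨y, hy, hyz, hy1⟩ := z_class hF lin8b cnt8b h.1.1.1.1.1.1.1.1.1.1.2 (by norm_num)
  obtain ⟨w, hw, hwz, hw1⟩ := z_class hF lin8c cnt8c h.1.1.1.1.1.1.1.1.1.2 (by norm_num)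
  have hf := fix_rows
  simp only [Bool.and_eq_true, Bool.not_eq_true'] at hf
  exact fam3 hx1 hy1 hw1 (not_conj_fix S hx hy hxz hyz hf.1.1) (not_conj_fix S hx hw hxz hwz hf.1.2)
    (not_conj_fix S hy hw hyz hwz hf.2)

theorem fam20 : Fam z 20 true [160, 160] := by
  have h := pow_rows
  simp only [Bool.and_eq_true] at h
  obtain ⟨x, hx, hxz, hx1⟩ := z_class hF lin5 cnt20a h.1.1.1.1.1.1.1.1.2 (by norm_num)
  obtain ⟨y, hy, hyz, hy1⟩ := z_class hF lin5 cnt20b h.1.1.1.1.1.1.1.2 (by norm_num)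
  exact fam2 hx1 hy1 (not_conj_none S lin5 (cnt_lt cnt20a) (cnt_lt cnt20b) none20 hx hy hxz hyz)

theorem fam12 : Fam z 12 true [192, 192] := by
  have h := pow_rows
  simp only [Bool.and_eq_true] at h
  obtain ⟨x, hx, hxz, hx1⟩ := z_class hF lin12a cnt12a h.1.1.1.1.1.1.2 (by norm_num)
  obtain ⟨y, hy, hyz, hy1⟩ := z_class hF lin12b cnt12b h.1.1.1.1.1.2 (by norm_num)
  have hp := pow_three
  simp only [Bool.and_eq_true, Bool.not_eq_true', Nat.beq_eq] at hp
  exact fam2 hx1 hy1 fun hc => not_conj_pow S hy hx hyz hxz hp.1.1 hp.1.2 hc.symm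

theorem fam16 : Fam z 16 true [32] := by
  have h := pow_rows
  simp only [Bool.and_eq_true] at h
  obtain ⟨x, -, -, hx1⟩ := z_class hF lin16 cnt16 h.1.1.1.1.2 (by norm_num)
  exact fam1 hx1

theorem fam24 : Fam z 24 true [48, 48] := by
  have h := pow_rows
  simp only [Bool.and_eq_true] at h
  obtain ⟨x, hx, hxz, hx1⟩ := z_class hF lin24 cnt24a h.1.1.1.2 (by norm_num)
  obtain ⟨y, hy, hyz, hy1⟩ := z_class hF lin24 cnt24b h.1.1.2 (by norm_num)
  exact fam2 hx1 hy1 (not_conj_none S lin24 (cnt_lt cnt24a) (cnt_lt cnt24b) none24 hx hy hxz hyz)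

theorem fam40 : Fam z 40 true [40, 40] := by
  have h := pow_rows
  simp only [Bool.and_eq_true] at h
  obtain ⟨x, hx, hxz, hx1⟩ := z_class hF lin40 cnt40a h.1.2 (by norm_num)
  obtain ⟨y, hy, hyz, hy1⟩ := z_class hF lin40 cnt40b h.2 (by norm_num)
  exact fam2 hx1 hy1 (not_conj_none S lin40 (cnt_lt cnt40a) (cnt_lt cnt40b) none40 hx hy hxz hyz)

omit hF in
include S in
theorem fam10 : Fam z 10 true [960] := by
  have h := five_rows
  simp only [Bool.and_eq_true, Nat.beq_eq] at h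
  obtain ⟨w, hw⟩ := exists_over S lin5 0
  obtain ⟨x, hx, hxz, -⟩ := exists_odd_lift S hw ⟨2, rfl⟩ h.1.1 h.1.2
  have h1 := card_cent_le (z := z) (cent_le_z hxz)
  have h2 := bound_CZ S lin5 cnt5 hx
  exact fam1 (one_z (m := 5) rfl (orderOf_of_half S hx (by norm_num) (by norm_num) hxz S.D.zz S.D.z_ne h.2)
    (by omega) hxz)

omit hF in
include S in
theorem fam30 : Fam z 30 true [30] := by
  have h := fifteen_rows
  simp only [Bool.and_eq_true, Nat.beq_eq] at h
  obtain ⟨w, hw⟩ := exists_over S lin15 0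
  obtain ⟨x, hx, hxz, -⟩ := exists_odd_lift S hw ⟨7, rfl⟩ h.1.1.1.1.1.1 h.1.1.1.1.1.2
  have h1 := card_cent_le (z := z) (cent_le_z hxz)
  have h2 := bound_CZ S lin15 cnt15 hx
  exact fam1 (one_z (m := 15) rfl
    (orderOf_of_half S hx (by norm_num) (by norm_num) hxz S.D.zz S.D.z_ne h.1.1.1.1.2) (by omega) hxz)

section Simple

variable [IsSimpleGroup G] (hG : ¬ IsMulCommutative G)
include hG

omit hF in
include F in
theorem fam15 : Fam z 15 false [30] := by
  have h := fifteen_rows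
  simp only [Bool.and_eq_true, Bool.not_eq_true', Nat.beq_eq] at h
  obtain ⟨⟨⟨⟨⟨⟨hX, hs⟩, -⟩, h3⟩, h5⟩, h10⟩, hs10⟩ := h
  obtain ⟨w, hw⟩ := exists_over S lin15 0
  obtain ⟨x', hx', -, hx15⟩ := exists_odd_lift S hw (n := 15) ⟨7, rfl⟩ hX hs
  have hx := fib_mul_z S hx'
  set x := x' * z
  have hp := fib_pow S hx (by norm_num) 10
  rw [h10, hs10] at hp
  have he : x ^ 10 = F.p := eq_p hp (by
    rw [← pow_mul, show 10 * 3 = 15 * 2 by norm_num, pow_mul, hx15, one_pow])
  have h1 := card_cent_le (z := z) (cent_le_P hG he)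
  have h2 := bound_CZ S lin15 cnt15 hx
  refine fam1 (x := x) ⟨?_, by omega, fun h => absurd h (by decide)⟩
  refine orderOf_eq_of_pow_and_pow_div_prime (by norm_num) hx15 ?_
  intro p hp' hd e
  have hk := fib_pow S hx (by norm_num) (15 / p)
  rw [e] at hk
  have hid := Pk.unique S (fib_one S).2.1 hk.2.1
  have hle : p ≤ 15 := Nat.le_of_dvd (by norm_num) hd
  have hp35 : p = 3 ∨ p = 5 := by interval_cases p <;> revert hp' hd <;> norm_num
  rcases hp35 with rfl | rfl
  · rw [show (15 : ℕ) / 3 = 5 from rfl] at hid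
    rw [← hid, Nat.beq_refl] at h5; exact Bool.noConfusion h5
  · rw [show (15 : ℕ) / 5 = 3 from rfl] at hid
    rw [← hid, Nat.beq_refl] at h3; exact Bool.noConfusion h3

omit hF in
/-- The elements of order six above a lift of the inner involution. -/
theorem exists_six {g : G} (hg : Fib z P π ρ B (sigOf 0) 0 g) (hg2 : g * g = 1) :
    ∃ x, Fib z P π ρ B l6.X 0 x ∧ x ^ 3 = g ∧ x ^ 4 = F.p ∧ orderOf x = 6 ∧
      Nat.card (centralizer ({x} : Set G)) ≤ 2304 := by
  have h := six_rows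
  simp only [Bool.and_eq_true, Nat.beq_eq] at h
  obtain ⟨⟨⟨⟨⟨⟨⟨⟨h3, hs3⟩, hodd⟩, h4⟩, hs4⟩, -⟩, -⟩, -⟩, -⟩ := h
  obtain ⟨w, hw⟩ := exists_over S lin6 0
  obtain ⟨x, hx, hxg⟩ : ∃ x, Fib z P π ρ B l6.X 0 x ∧ x ^ 3 = g := by
    have hp := fib_pow S hw (by norm_num) 3
    rw [h3, hs3] at hp
    rcases fib_pair S hg hp with e | e
    · exact ⟨w, hw, e⟩
    · refine ⟨w * z, fib_mul_z S hw, ?_⟩
      rw [(S.D.comm_z hw.1).mul_pow 3, e, mul_assoc, pow_succ z, pow_two, S.D.zz, one_mul, S.D.zz, mul_one]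
  have hg1 : g ≠ 1 := ne_one_of_code S hg (by decide +kernel)
  have ho : orderOf x = 2 * 3 := orderOf_of_half S hx (by norm_num) (by norm_num) hxg hg2 hg1 hodd
  have hp := fib_pow S hx (by norm_num) 4
  rw [h4, hs4] at hp
  have he : x ^ 4 = F.p := eq_p hp (by
    rw [← pow_mul, show 4 * 3 = orderOf x * 2 by rw [ho], pow_mul, pow_orderOf_eq_one, one_pow])
  have h1 := card_cent_le (z := z) (cent_le_P hG he)
  have h2 := bound_CZ S lin6 cnt6 hx
  exact ⟨x, hx, hxg, he, ho, by omega⟩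

theorem fam6 : Fam z 6 true [2661120, 2304] ∧ Fam z 6 false [2304] := by
  have h := six_rows
  simp only [Bool.and_eq_true, Nat.beq_eq] at h
  obtain ⟨g, hg, hgz⟩ := fib_of_ne (u := z) (j := 0)
    (by rw [fibNum_z hF (by norm_num) (by norm_num), h.1.2]; norm_num)
  obtain ⟨t, ht, htt⟩ := fib_of_ne (u := F.tt) (j := 0)
    (by rw [fibNum_t hF (by norm_num) (by norm_num), h.2]; norm_num)
  obtain ⟨y, -, hy3, hy4, hyo, hyc⟩ := exists_six (F := F) hG hg (isConj_sq S.D.zz hgz)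
  obtain ⟨w, -, hw3, -, hwo, hwc⟩ := exists_six (F := F) hG ht (isConj_sq (Frame'.tt_sq F) htt)
  refine ⟨?_, fam1 (one_t (m := 3) rfl hwo hwc fun h' => F.not_conj_tt ((hw3 ▸ h').trans htt.symm))⟩
  have hs := scalar_rows
  simp only [Bool.and_eq_true, Nat.beq_eq] at hs
  obtain ⟨⟨⟨hodd, hI⟩, hK⟩, -⟩ := hs
  have hp3 : F.p ^ 3 = 1 := orderOf_p F ▸ pow_orderOf_eq_one F.p
  have hz4 : z ^ 4 = 1 := by rw [show 4 = 2 * 2 from rfl, pow_mul, pow_two z, S.D.zz, one_pow]
  have hz3 : z ^ 3 = z := by rw [pow_succ, pow_two, S.D.zz, one_mul]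
  have hpc : Commute F.p z := S.D.comm_z F.p_m.1
  have hxz : (F.p * z) ^ 3 = z := by rw [hpc.mul_pow 3, hp3, hz3, one_mul]
  have hx4 : (F.p * z) ^ 4 = F.p := by rw [hpc.mul_pow 4, hz4, mul_one, pow_succ F.p, hp3, one_mul]
  have h1 := card_cent_le (z := z) (cent_le_z hxz)
  have h2 := card_CZ S hI hK (card_lin_scalar S) (fib_mul_z S (p_fib F)) (by norm_num)
  refine fam2 (one_z (m := 3) rfl
    (orderOf_of_half S (fib_mul_z S (p_fib F)) (by norm_num) (by norm_num) hxz S.D.zz S.D.z_ne hodd)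
    (by omega) hxz) ⟨hyo, hyc, fun _ => by rw [show (6 : ℕ) / 2 = 3 from rfl, hy3]; exact iff_of_true hgz rfl⟩ ?_
  intro hc
  obtain ⟨c, e⟩ := isConj_iff.1 hc
  have hcz : c ∈ centralizer ({z} : Set G) := by
    refine cent_p F hG (mem_centralizer_singleton_iff.2 (mul_inv_eq_iff_eq_mul.1 ?_))
    rw [← e, conj_pow, hx4] at hy4
    exact hy4
  rw [← e, conj_pow, hxz, (S.D.comm_z hcz).eq, mul_inv_cancel_right] at hy3
  have hzf : Fib z P π ρ B idP 0 z := by
    have := fib_mul_z S (fib_one S); rwa [one_mul] at this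
  rw [← hy3] at hg
  have := (fib_inj_code S hzf hg (by norm_num) (by norm_num)).1
  revert this
  decide +kernel

omit hG in
omit [IsSimpleGroup G] in
theorem fam10t : Fam z 10 false [80] := by
  have h := ten_rows
  simp only [Bool.and_eq_true, Nat.beq_eq] at h
  obtain ⟨⟨⟨⟨hX, hv⟩, hodd⟩, hflip⟩, hz⟩ := h
  obtain ⟨x, hx⟩ := exists_over S lin10t 1983
  have hw := fib_pow S hx (by norm_num) 5
  rw [hX, hv] at hw
  obtain ⟨hm, hvec⟩ := fib_idP S hw
  obtain ⟨hk, hsq, hne, -⟩ := power_long hF (by norm_num) hm hvec long_kind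
  have hH := cent_le_long hF hx (by norm_num) (by norm_num) hm hvec long_kind hz
  obtain ⟨y, hy, -, hyx⟩ := exists_flip hF hx (by norm_num) hflip
  have h1 := card_cent_half S hH (oc_le z hy) hyx
  have h2 := bound_CZ S lin10t cnt10t hx
  exact fam1 (one_t (m := 5) rfl (orderOf_of_half S hx (by norm_num) (by norm_num) rfl hsq hne hodd)
    (by omega) hk)

omit hG in
omit [IsSimpleGroup G] in
theorem fam12t : Fam z 12 false [48] := by
  have h := twelve_rows
  simp only [Bool.and_eq_true, Nat.beq_eq] at h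
  obtain ⟨⟨⟨⟨⟨hX, hv⟩, hodd⟩, hflip⟩, hju⟩, hz⟩ := h
  obtain ⟨x, hx⟩ := exists_over S lin12t 1024
  have hw := fib_pow S hx (by norm_num) 6
  rw [hX, hv] at hw
  obtain ⟨hm, hvec⟩ := fib_idP S hw
  obtain ⟨hk, hsq, hne, -⟩ := power_long hF (by norm_num) hm hvec long_kind
  have hH := cent_le_long_img hF hx (by norm_num) (by norm_num) hm hvec long_kind hflip (by norm_num) hju hz
  obtain ⟨y, hy, -, hyx⟩ := exists_flip hF hx (by norm_num) hflip
  have h1 := card_cent_half S hH (oc_le z hy) hyx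
  have h2 := bound_CZ S lin12t cnt12t hx
  exact fam1 (one_t (m := 6) rfl (orderOf_of_half S hx (by norm_num) (by norm_num) rfl hsq hne hodd)
    (by omega) hk)

omit hG in
omit hF in
omit [IsSimpleGroup G] in
include S in
theorem famZ : Fam z 2 true [21799895040] :=
  fam1 (one_z (m := 1) rfl S.D.set'.ord (le_of_eq (card_centralizer_z S.D.hJ)) (pow_one z))

end Simple

end Cfsg.Agent.J4Classes.CentZ

namespace Cfsg.Agent.J4Classes.C

open J4Type.V11 CentZ

/-- **The families of the rows computed in the centraliser of `z`.** -/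
theorem fams {G : Type*} [Group G] [Finite G] [IsSimpleGroup G] (hG : ¬ IsMulCommutative G) {z : G}
    {P : Subgroup G} (hJ : IsOfJankoFourTypeWith z P) : Fams z rowsC := by
  obtain ⟨B, S⟩ := exists_sys hG hJ
  obtain ⟨F, hF⟩ := Frame.exists_good S
  intro r hr
  simp only [rowsC, List.mem_cons, List.not_mem_nil, or_false] at hr
  rcases hr with rfl | rfl | rfl | rfl | rfl | rfl | rfl | rfl | rfl | rfl | rfl | rfl | rfl | rfl | rfl
  exacts [famZ (S := S), fam4 hF, (fam6 hF hG).1, (fam6 hF hG).2, fam8 hF, fam10 (S := S), fam10t hF,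
    fam12 hF, fam12t hF, fam15 (F := F) hG, fam16 hF, fam20 hF, fam24 hF, fam30 (S := S), fam40 hF]

end Cfsg.Agent.J4Classes.C
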