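import Cfsg.Agent.J4Classes.C.Base
import Mathlib.GroupTheory.OrderOfElement

/-!
# Powers, orders and elements moving `x` to `x * z`
-/

set_option autoImplicit false

open Cfsg Subgroup

namespace Cfsg.Agent.J4Classes.CentZ

open LargeExtra (oc oc_le oc_conj_mem)
open J4Type J4Type.V11 J4Type.V11.AZ J4Type.Rep J4Type.Orbits

/-- Whether an element over an involution or the identity squares to `z`. -/
noncomputable def sgnB (T b : ℕ) : Bool :=
  cond (Nat.beq T idP) (bit qBits b) (Nat.beq (mulP T wP) (mulP wP T) && bit qBits b)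

/-- The power squares to `z`. -/
noncomputable def zOK (X a m : ℕ) : Bool :=
  Nat.beq (mulP (powP X m) (powP X m)) idP &&
    Nat.beq (mulP (powP X m) (mulP (sumP X m) a)) (mulP (sumP X m) a) &&
    sgnB (powP X m) (mulP (sumP X m) a)

/-- The vector `u` gives an element moving `x` to `x * z`. -/
noncomputable def flipOK (X a m u : ℕ) : Bool :=
  Nat.blt u 4096 && Nat.beq (mulP (powP X m) (powP X m)) idP &&
    Nat.beq (mulP (powP X m) (mulP (sumP X m) a)) (mulP (sumP X m) a) &&
    Nat.beq (mulP (powP X m) u) u &&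
    Bool.xor (Bool.xor (sgnB (powP X m) (mulP (sumP X m) a))
      (Bool.xor (sgnB (powP X m) (Nat.xor (mulP (sumP X m) a) u)) (bit qBits u)))
      (bvB u (mulP (sumP X m) u))

/-- No odd divisor kills the linear part. -/
noncomputable def oddDiv (X n : ℕ) : Bool :=
  (List.range (n + 1)).all fun p =>
    !(Nat.ble 3 p && Nat.beq (Nat.mod p 2) 1 && Nat.beq (Nat.mod n p) 0) ||
      !Nat.beq (powP X (Nat.div (Nat.mul 2 n) p)) idP

variable {G : Type*} [Group G] [Finite G] {z : G} {P : Subgroup G} {V : Type*} [AddCommGroup V]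
  {π : ↥(oc z) →* Multiplicative V} {ρ : ↥(mSub z P) →* Equiv.Perm V} {q : V → ZMod 2} {B : List V}
  {S : Sys z P π ρ q B} {F : Frame S}

section Sys

variable (S)
include S

theorem lin_one_of_code {h : G} {a : ℕ} (hf : Fib z P π ρ B idP a h) : h ∈ oc z := (fib_idP S hf).1

/-- Nontrivial elements have nontrivial codes. -/
theorem ne_one_of_code {h : G} {X a : ℕ} (hf : Fib z P π ρ B X a h) (hX : X ≠ idP) : h ≠ 1 :=
  ne_one_of_lin S hf hX

/-- The order from the involution among the powers. -/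
theorem orderOf_of_half {x w : G} {X a n : ℕ} (hx : Fib z P π ρ B X a x) (ha : a < 4096) (hn : 0 < n)
    (hw : x ^ n = w) (hw2 : w * w = 1) (hw1 : w ≠ 1) (hodd : oddDiv X n = true) : orderOf x = 2 * n := by
  refine orderOf_eq_of_pow_and_pow_div_prime (by omega) (by rw [two_mul, pow_add, hw, hw2]) ?_
  intro p hp hdvd e
  rcases hp.eq_two_or_odd with rfl | hpo
  · rw [Nat.mul_div_cancel_left n (by norm_num), hw] at e
    exact hw1 e
  · have hp3 : 3 ≤ p := by have := hp.two_le; omega
    have hpn : p ∣ n := (Nat.Coprime.dvd_of_dvd_mul_left ((Nat.coprime_primes hp Nat.prime_two).2 (by omega)) hdvd)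
    have h := List.all_eq_true.1 hodd p (List.mem_range.2 (Nat.lt_succ_of_le (Nat.le_of_dvd hn hpn)))
    have hb : (Nat.ble 3 p && Nat.beq (Nat.mod p 2) 1 && Nat.beq (Nat.mod n p) 0) = true := by
      simp only [Bool.and_eq_true, Nat.ble_eq, Nat.beq_eq]
      exact ⟨⟨hp3, hpo⟩, Nat.mod_eq_zero_of_dvd hpn⟩
    rw [hb, Bool.not_true, Bool.false_or, Bool.not_eq_true'] at h
    have hf := fib_pow S hx ha (2 * n / p)
    rw [e] at hf
    have := (Pk.unique S (fib_one S).2.1 hf.2.1)
    rw [show Nat.div (Nat.mul 2 n) p = 2 * n / p from rfl, ← this, Nat.beq_refl] at h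
    exact Bool.noConfusion h

end Sys

variable (hF : F.Good)
include hF

/-- The square of an element over an involution or the identity. -/
theorem sq_val {T b : ℕ} {h : G} (hh : Fib z P π ρ B T b h) (hb : b < 4096) (hT : mulP T T = idP)
    (hfix : mulP T b = b) : h * h = zp z (sgnB T b) := by
  have h2 := fib_mul S hh hh hb
  rw [hT, hfix, Nat.xor_self] at h2
  by_cases hid : T = idP
  · subst hid
    obtain ⟨hm, hv⟩ := fib_idP S hh
    rw [sgnB, Nat.beq_refl, cond_true, qbit S hb]
    exact S.sq_code hm hb hv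
  · have hl : J4Type.lin ρ h * J4Type.lin ρ h = 1 := by
      rw [← (S.D.lin_mul hh.1 hh.1).1]
      exact Pk.inj S h2.2.1 (pk_one S)
    obtain ⟨i, hi, hp⟩ := exists_tau S (S.D.lin_mem hh.1) hl
    have hTi := Pk.unique S hh.2.1 hp
    have hi' : i < 6303 := by
      by_contra hge
      rw [show i = 6303 by omega, tauOf_last] at hTi
      exact hid hTi
    rw [tauOf_lt hi'] at hTi
    rw [sgnB, show Nat.beq T idP = false by
      cases e : Nat.beq T idP
      · rfl
      · exact absurd (Nat.eq_of_beq_eq_true e) hid, cond_false]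
    have hkey := sq_fib hF (classData hF) hi' (hTi ▸ hh) hb (fib_idP_zero S h2)
    rw [← hTi] at hkey
    cases hs : (Nat.beq (mulP T wP) (mulP wP T) && bit qBits b)
    · rcases fib_idP_zero S h2 with e | e
      · exact e
      · rw [Bool.and_eq_false_iff] at hs
        obtain ⟨h1, h2⟩ := hkey.1 e
        rcases hs with hs | hs
        · rw [h1] at hs; exact Bool.noConfusion hs
        · rw [h2] at hs; exact Bool.noConfusion hs
    · rw [Bool.and_eq_true] at hs
      exact hkey.2 hs

/-- A power equal to `z`. -/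
theorem pow_eq_z {x : G} {X a m : ℕ} (hx : Fib z P π ρ B X a x) (ha : a < 4096) (hz : zOK X a m = true) :
    x ^ (2 * m) = z := by
  simp only [zOK, Bool.and_eq_true, Nat.beq_eq] at hz
  have h := sq_val hF (fib_pow S hx ha m) (sum_lt S hx.2.1 m ha) hz.1.1 hz.1.2
  rw [hz.2] at h
  rw [two_mul, pow_add, h]
  rfl

/-- The halving element. -/
theorem exists_flip {x : G} {X a m u : ℕ} (hx : Fib z P π ρ B X a x) (ha : a < 4096)
    (h : flipOK X a m u = true) :
    ∃ y ∈ oc z, vec π y = Rep.lin B (mulP (sumP X m) u) ∧ y * x = x * y * z := by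
  simp only [flipOK, Bool.and_eq_true, Nat.blt_eq, Nat.beq_eq] at h
  obtain ⟨⟨⟨⟨hu, hT⟩, hb⟩, hTu⟩, hc⟩ := h
  set T := powP X m with hTdef
  set b := mulP (sumP X m) a with hbdef
  set v := mulP (sumP X m) u with hvdef
  have hblt : b < 4096 := sum_lt S hx.2.1 m ha
  have hvlt : v < 4096 := sum_lt S hx.2.1 m hu
  obtain ⟨e, he, hev⟩ := S.exists_code u
  have hw : Fib z P π ρ B T b (x ^ m) := fib_pow S hx ha m
  have hwe : Fib z P π ρ B T (b ^^^ u) (x ^ m * e) := by
    have h := fib_mul S hw (oc_fib S he hev) hu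
    have hid : mulP T idP = T := Pk.unique S
      (by simpa using hw.2.1.mul (pk_one S)) hw.2.1
    rwa [hid, hTu] at h
  have hs0 := sq_val hF hw hblt hT hb
  have hs1 := sq_val hF hwe (xor_lt hblt hu) hT (by rw [hw.2.1.linear S hblt hu, hb, hTu])
  have hee := S.sq_code he hu hev
  rw [← qbit S hu] at hee
  have hzp : ∀ {g : G}, g ∈ centralizer ({z} : Set G) → ∀ c, Commute g (zp z c) := fun hg c => S.zp_comm hg c
  -- the conjugate of `e` by the power
  have hconj : x ^ m * e * (x ^ m)⁻¹ = e * zp z (Bool.xor (sgnB T b)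
      (Bool.xor (sgnB T (b ^^^ u)) (bit qBits u))) := by
    set w := x ^ m
    have he2 : e⁻¹ = e * zp z (bit qBits u) := by
      refine inv_eq_of_mul_eq_one_right ?_
      rw [← mul_assoc, hee, S.zp_mul, Bool.xor_self]
      rfl
    have hw2 : w⁻¹ = w * zp z (sgnB T b) := by
      refine inv_eq_of_mul_eq_one_right ?_
      rw [← mul_assoc, hs0, S.zp_mul, Bool.xor_self]
      rfl
    have hwew : w * e * w = zp z (sgnB T (b ^^^ u)) * e⁻¹ := by
      rw [← hs1]
      group
    calc w * e * w⁻¹ = w * e * w * zp z (sgnB T b) := by rw [hw2, mul_assoc (w * e) w]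
      _ = zp z (sgnB T (b ^^^ u)) * e * zp z (bit qBits u) * zp z (sgnB T b) := by
        rw [hwew, he2, ← mul_assoc]
      _ = e * zp z (sgnB T (b ^^^ u)) * zp z (bit qBits u) * zp z (sgnB T b) := by
        rw [(hzp (oc_le z he) (sgnB T (b ^^^ u))).eq]
      _ = _ := by
        rw [mul_assoc, mul_assoc e, S.zp_mul, S.zp_mul]
        congr 2
        cases sgnB T b <;> cases sgnB T (b ^^^ u) <;> cases bit qBits u <;> rfl
  -- the product of the conjugates
  have hprod : ∀ k, ∃ y ∈ oc z, vec π y = Rep.lin B (mulP (sumP X k) u) ∧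
      x * y * x⁻¹ = e⁻¹ * y * (x ^ k * e * (x ^ k)⁻¹) := by
    intro k
    induction k with
    | zero =>
      refine ⟨1, one_mem _, ?_, by group⟩
      rw [vec_one, sum_zero, (act_zero.eval hu).1, Rep.lin_zero]
    | succ k ih =>
      obtain ⟨y, hy, hv, hxy⟩ := ih
      have hc : x * y * x⁻¹ ∈ oc z := oc_conj_mem hx.1 hy
      refine ⟨e * (x * y * x⁻¹), mul_mem he hc, ?_, ?_⟩
      · obtain ⟨M, hM, hMe, -⟩ := hx.2.1
        rw [vec_mul he hc, hev, S.D.vec_conj_lin hx.1 hy, hv, hx.2.1.apply (sum_lt S hx.2.1 k hu),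
          sum_step hM hMe k hu, S.M.lin_add]
      · have he' : x * (e * (x * y * x⁻¹)) * x⁻¹ =
            x * (e * (e⁻¹ * y * (x ^ k * e * (x ^ k)⁻¹))) * x⁻¹ := by rw [hxy]
        rw [he']
        calc x * (e * (e⁻¹ * y * (x ^ k * e * (x ^ k)⁻¹))) * x⁻¹
            = x * y * x⁻¹ * (x * x ^ k * e * (x * x ^ k)⁻¹) := by group
          _ = _ := by rw [← pow_succ', inv_mul_cancel_left]
  obtain ⟨y, hy, hv, hxy⟩ := hprod m
  refine ⟨y, hy, hv, ?_⟩
  rw [hconj] at hxy
  have hye := S.conj_code hy he hvlt hu hv hev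
  rw [← bvB_eq hvlt hu] at hye
  have hsym : bvB v u = bvB u v := by
    simp only [bvB, show Nat.xor v u = Nat.xor u v from Nat.xor_comm v u]
    cases bit qBits v <;> cases bit qBits u <;> rfl
  rw [hsym] at hye
  set β := bvB u v
  set γ := Bool.xor (sgnB T b) (Bool.xor (sgnB T (b ^^^ u)) (bit qBits u))
  have hxor : Bool.xor β γ = true := by
    rw [Bool.xor_comm]
    exact hc
  have hyx : x * y * x⁻¹ = y * z := by
    rw [hxy, ← mul_assoc, mul_assoc e⁻¹, show y * e = e * zp z β * y by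
      rw [← hye]; group]
    rw [← mul_assoc, ← mul_assoc, inv_mul_cancel, one_mul, (hzp (oc_le z hy) β).symm.eq, mul_assoc,
      S.zp_mul, hxor]
    rfl
  have h1 : x * y = y * z * x := mul_inv_eq_iff_eq_mul.1 hyx
  rw [h1, mul_assoc y z x, ← (S.D.comm_z hx.1).eq, mul_assoc y, mul_assoc x, S.D.zz, mul_one]

end Cfsg.Agent.J4Classes.CentZ
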